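import Mathlib
import Groth.Prelude.Def_AlgSpCov
import Groth.Agent.Lib.Helper5.AlgSp.FppfLocal
import Groth.Agent.Lib.Helper5.AlgSp.FibreProduct

/-!
# Coverings of algebraic spaces: basic descent framework (helper3)
-/

set_option autoImplicit false
set_option linter.overlappingInstances false

universe u

open CategoryTheory CategoryTheory.Limits AlgebraicGeometry MorphismProperty Opposite

namespace Groth.Agent.H3.AlgSpCov


/-- The morphism from a finite disjoint union of affine flat `Z`-schemes jointly surjective onto the affine `Z`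
is surjective, flat and quasi-compact. -/
lemma fpqc_sigmaDesc {Z : Scheme.{u}} [IsAffine Z] {m : ℕ} (W : Fin m → Scheme.{u})
    (c : ∀ j, W j ⟶ Z) [∀ j, IsAffine (W j)] (hflat : ∀ j, Flat (c j))
    (hsurj : ∀ z : Z, ∃ j, z ∈ Set.range (c j)) :
    (@Surjective ⊓ @Flat ⊓ @QuasiCompact : MorphismProperty Scheme.{u}) (Sigma.desc c) := by
  refine ⟨⟨⟨fun z => ?_⟩, ?_⟩, ?_⟩
  · obtain ⟨j, y, hy⟩ := hsurj z
    refine ⟨Sigma.ι W j y, ?_⟩
    rw [← Scheme.Hom.comp_apply, Sigma.ι_desc, hy]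
  · exact IsZariskiLocalAtSource.sigmaDesc (P := @Flat) hflat
  · have : IsAffineHom (Sigma.desc c) := isAffineHom_of_isAffine _
    infer_instance

/-- Scheme-level descent along a finite flat affine jointly surjective family. -/
theorem of_finite_flat_family {P : MorphismProperty Scheme.{u}} [P.RespectsIso]
    [IsZariskiLocalAtTarget P] [P.DescendsAlong (@Surjective ⊓ @Flat ⊓ @QuasiCompact)]
    {X Z : Scheme.{u}} (f : X ⟶ Z) [IsAffine Z] {m : ℕ} (W : Fin m → Scheme.{u})
    (c : ∀ j, W j ⟶ Z) [∀ j, IsAffine (W j)] (hflat : ∀ j, Flat (c j))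
    (hsurj : ∀ z : Z, ∃ j, z ∈ Set.range (c j))
    (A : Fin m → Scheme.{u}) (a : ∀ j, A j ⟶ X) (b : ∀ j, A j ⟶ W j)
    (sq : ∀ j, IsPullback (a j) (b j) f (c j)) (h : ∀ j, P (b j)) : P f := by
  let p : ∐ W ⟶ Z := Sigma.desc c
  have hp := fpqc_sigmaDesc W c hflat hsurj
  refine MorphismProperty.of_pullback_snd_of_descendsAlong (f := f) (g := p) hp ?_
  rw [IsZariskiLocalAtTarget.iff_of_openCover (P := P) (sigmaOpenCover W)]
  intro (j : Fin m)
  change P (pullback.snd (pullback.snd f p) (Sigma.ι W j))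
  have sq' : IsPullback (pullback.fst (pullback.snd f p) (Sigma.ι W j) ≫ pullback.fst f p)
      (pullback.snd (pullback.snd f p) (Sigma.ι W j)) f (Sigma.ι W j ≫ p) :=
    IsPullback.paste_horiz (IsPullback.of_hasPullback _ _) (IsPullback.of_hasPullback f p)
  have e : Sigma.ι W j ≫ p = c j := Sigma.ι_desc _ _
  rw [e] at sq'
  rw [Groth.Agent.H5.AlgSp.prop_of_isPullback_snd_iff (P := P) sq',
    ← Groth.Agent.H5.AlgSp.prop_of_isPullback_snd_iff (P := P) (sq j)]
  exact h j


open _root_.AlgSp Groth.Agent.H5.AlgSp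

variable {S : Scheme.{u}}

/-- `Q` is stable under base change among algebraic spaces. -/
def BCStable (Q : MorphismProperty (Sp S)) : Prop :=
  ∀ ⦃X Y X' Y' : Sp S⦄ (f : X ⟶ Y) (g : Y' ⟶ Y) (fst : X' ⟶ X) (f' : X' ⟶ Y'),
    IsAlgSpace X → IsAlgSpace Y → IsAlgSpace Y' → IsPullback fst f' f g → Q f → Q f'

/-- `Q` can be checked after base change to standard fpqc coverings of affine schemes over the
base. -/
def FpqcLocal (Q : MorphismProperty (Sp S)) : Prop :=
  ∀ ⦃X Y : Sp S⦄ (f : X ⟶ Y), IsAlgSpace X → IsAlgSpace Y →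
    (∀ (Z : Over S), IsAffine Z.left → ∀ (hZ : (yon S).obj Z ⟶ Y),
      ∃ (m : ℕ) (W : Fin m → Over S) (c : ∀ j, W j ⟶ Z),
        (∀ j, IsAffine (W j).left) ∧ (∀ j, Flat (c j).left) ∧
        (∀ z : ↥Z.left, ∃ j, z ∈ Set.range (c j).left) ∧
        ∀ j, Q (pullback.snd f ((yon S).map (c j) ≫ hZ))) → Q f

theorem isLocalOnBase_fpqc_of {Q : MorphismProperty (Sp S)} (h1 : BCStable Q) (h2 : FpqcLocal Q) :
    IsLocalOnBase (IsFpqcCover (S := S)) Q := by
  intro ι Y Yi g hY hYi hcov X f hX Xi p q hXi sq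
  constructor
  · intro hf i
    exact h1 f (g i) (q i) (p i) hX hY (hYi i) (sq i) hf
  · intro hp
    refine h2 f hX hY fun Z hZaff hZ => ?_
    obtain ⟨m, W, c, haff, hflat, hsurj, hl⟩ := hcov.2 Z hZaff hZ
    refine ⟨m, W, c, haff, hflat, hsurj, fun j => ?_⟩
    obtain ⟨i, l, hl⟩ := hl j
    have key : ∀ (x : (yon S).obj (W j) ⟶ Y), x = (yon S).map (c j) ≫ hZ →
        Q (pullback.snd f x) → Q (pullback.snd f ((yon S).map (c j) ≫ hZ)) := by
      rintro x rfl h
      exact h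
    refine key _ hl ?_
    have hw : pullback.fst f (l ≫ g i) ≫ f = (pullback.snd f (l ≫ g i) ≫ l) ≫ g i := by
      rw [pullback.condition, Category.assoc]
    have big : IsPullback ((sq i).lift _ _ hw ≫ q i) (pullback.snd f (l ≫ g i)) f (l ≫ g i) := by
      rw [(sq i).lift_fst]
      exact IsPullback.of_hasPullback _ _
    have left : IsPullback ((sq i).lift _ _ hw) (pullback.snd f (l ≫ g i)) (p i) l :=
      IsPullback.of_right big ((sq i).lift_snd _ _ hw) (sq i)
    exact h1 (p i) l _ _ (hXi i) (hYi i) (IsAlgSpace.yon_obj _) left (hp i)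

end Groth.Agent.H3.AlgSpCov
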