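import Mathlib
import Groth.Agent.Lib.Helper3.AlgSpCov.Basic
import Groth.Agent.Lib.Helper5.AlgSp.Cover

set_option autoImplicit false
set_option linter.overlappingInstances false
set_option linter.unusedSectionVars false

universe u

open CategoryTheory CategoryTheory.Limits AlgebraicGeometry MorphismProperty Opposite Topology

namespace Groth.Agent.H3.AlgSpCov

open _root_.AlgSp Groth.Agent.H5.AlgSp

variable {S : Scheme.{u}}

section YonCoprod

variable {ι : Type u} (W : ι → Over S)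

/-- The disjoint union of a family of schemes over `S`, as a scheme over `S`. -/
noncomputable def sigmaOver : Over S := Over.mk (Sigma.desc fun i => (W i).hom)

/-- The inclusions into the disjoint union. -/
noncomputable def sigmaOverι (i : ι) : W i ⟶ sigmaOver W :=
  Over.homMk (Sigma.ι (fun i => (W i).left) i) (by simp [sigmaOver])

@[simp] lemma sigmaOverι_left (i : ι) :
    (sigmaOverι W i).left = Sigma.ι (fun i => (W i).left) i := rfl

lemma sigmaOver_mem_J :
    Sieve.generate (Presieve.ofArrows W (sigmaOverι W)) ∈ J S (sigmaOver W) := by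
  rw [mem_J_iff]
  refine ⟨Presieve.ofArrows W (sigmaOverι W), ?_, Sieve.le_generate _⟩
  rw [Presieve.map_ofArrows]
  refine (Scheme.ofArrows_mem_precoverage_iff (P := @Flat ⊓ @LocallyOfFinitePresentation)
    (X := fun i => (W i).left) (f := fun i => Sigma.ι (fun i => (W i).left) i)).2
    ⟨fun x => ?_, fun i => ⟨inferInstance, inferInstance⟩⟩
  obtain ⟨i, y, hy⟩ := (sigmaOpenCover (fun i => (W i).left)).exists_eq x
  exact ⟨i, y, hy⟩

/-- The empty sieve covers a scheme with no points. -/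
lemma bot_mem_J_of_isEmpty (Z : Over S) [IsEmpty Z.left] : (⊥ : Sieve Z) ∈ J S Z := by
  rw [mem_J_iff]
  refine ⟨Presieve.ofArrows (fun i : PEmpty.{u + 1} => i.elim) (fun i => i.elim), ?_, ?_⟩
  · rw [Presieve.map_ofArrows]
    refine (Scheme.ofArrows_mem_precoverage_iff (P := @Flat ⊓ @LocallyOfFinitePresentation)).2
      ⟨fun x => (IsEmpty.false x).elim, fun i => i.elim⟩
  · rintro _ _ ⟨i⟩
    exact i.elim

/-- Sections of a sheaf over the empty scheme are unique. -/
lemma subsingleton_sections_of_isEmpty (F : Sp S) (Z : Over S) [IsEmpty Z.left] :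
    Subsingleton (F.obj.obj (op Z)) := by
  have hF : Presieve.IsSheaf (J S) F.obj := (isSheaf_iff_isSheaf_of_type _ _).1 F.property
  have h := (hF (⊥ : Sieve Z) (bot_mem_J_of_isEmpty Z)).isSeparatedFor
  refine ⟨fun a b => h (fun _ _ hf => hf.elim) a b ?_ ?_⟩ <;>
  · intro _ _ hf
    exact hf.elim

lemma isEmpty_of_sigmaOverι_ne {i j : ι} (hij : i ≠ j) {Z : Over S} (gi : Z ⟶ W i)
    (gj : Z ⟶ W j) (h : gi ≫ sigmaOverι W i = gj ≫ sigmaOverι W j) : IsEmpty Z.left := by
  refine ⟨fun z => ?_⟩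
  have h1 := congrArg (fun k => k.left z) h
  simp only [Over.comp_left, sigmaOverι_left, Scheme.Hom.comp_apply] at h1
  have hd := disjoint_opensRange_sigmaι (fun i => (W i).left) i j hij
  rw [← TopologicalSpace.Opens.coe_disjoint, Set.disjoint_left] at hd
  exact hd ⟨gi.left z, rfl⟩ ⟨gj.left z, h1.symm⟩

instance mono_sigmaOverι (i : ι) : Mono (sigmaOverι W i) := by
  refine ⟨fun g h hgh => ?_⟩
  ext1
  have h1 := congrArg (fun k => k.left) hgh
  simp only [Over.comp_left, sigmaOverι_left] at h1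
  exact (cancel_mono (Sigma.ι (fun i => (W i).left) i)).1 h1

/-- `h_{∐ W i}` is the coproduct of the `h_{W i}` in fppf sheaves. -/
theorem existsUnique_yon_sigmaOver_desc (F : Sp S) (x : ∀ i, (yon S).obj (W i) ⟶ F) :
    ∃! m : (yon S).obj (sigmaOver W) ⟶ F, ∀ i, (yon S).map (sigmaOverι W i) ≫ m = x i := by
  have hF : Presieve.IsSheaf (J S) F.obj := (isSheaf_iff_isSheaf_of_type _ _).1 F.property
  have hsh := hF.isSheafFor (Presieve.ofArrows W (sigmaOverι W)) (sigmaOver_mem_J W)
  rw [Presieve.isSheafFor_arrows_iff] at hsh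
  have compat : Presieve.Arrows.Compatible F.obj (sigmaOverι W)
      (fun i => yEquiv F (W i) (x i)) := by
    intro i j Z gi gj h
    by_cases hij : i = j
    · subst hij
      rw [(cancel_mono _).1 h]
    · have := isEmpty_of_sigmaOverι_ne W hij gi gj h
      exact (subsingleton_sections_of_isEmpty F Z).elim _ _
  obtain ⟨t, ht, huniq⟩ := hsh _ compat
  refine ⟨(yEquiv F _).symm t, fun i => ?_, fun m hm => ?_⟩
  · apply (yEquiv F (W i)).injective
    change (J S).uliftYonedaEquiv _ = _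
    rw [← (J S).uliftYonedaEquiv_naturality]
    change F.obj.map (sigmaOverι W i).op (yEquiv F _ ((yEquiv F _).symm t)) = _
    rw [Equiv.apply_symm_apply]
    exact ht i
  · apply (yEquiv F _).injective
    rw [Equiv.apply_symm_apply]
    refine huniq _ fun i => ?_
    change F.obj.map (sigmaOverι W i).op ((J S).uliftYonedaEquiv m) = _
    rw [(J S).uliftYonedaEquiv_naturality, hm i]

/-- The cofan of representable sheaves `h_{W i} ⟶ h_{∐ W i}`. -/
noncomputable def yonCofan : Cofan (fun i => (yon S).obj (W i)) :=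
  Cofan.mk ((yon S).obj (sigmaOver W)) (fun i => (yon S).map (sigmaOverι W i))

/-- `h_{∐ W i}` is the coproduct of the `h_{W i}` in fppf sheaves. -/
noncomputable def yonCofanIsColimit : IsColimit (yonCofan W) :=
  Cofan.IsColimit.mk _ (fun t => (existsUnique_yon_sigmaOver_desc W t.pt t.inj).exists.choose)
    (fun t j => (existsUnique_yon_sigmaOver_desc W t.pt t.inj).exists.choose_spec j)
    (fun t _ hm => (existsUnique_yon_sigmaOver_desc W t.pt t.inj).unique hm
      (existsUnique_yon_sigmaOver_desc W t.pt t.inj).exists.choose_spec)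

end YonCoprod

section Criterion

/-- Finite coproducts in `Sp S` are van Kampen: a cofan whose legs are the pullbacks of the legs of
a colimit cofan is a colimit cofan. -/
lemma cofan_isColimit_of_isPullback {ι : Type u} [Finite ι] {Xi Yi : ι → Sp S}
    (fi : ∀ i, Xi i ⟶ Yi i) (cX : Cofan Xi) (cY : Cofan Yi) (hcY : IsColimit cY)
    (m : cX.pt ⟶ cY.pt) (h : ∀ i, IsPullback (cX.inj i) (fi i) m (cY.inj i)) :
    Nonempty (IsColimit cX) := by
  refine ((FinitaryExtensive.isVanKampen_finiteCoproducts hcY) cX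
    (Discrete.natTrans fun i => fi i.as) m ?_ (NatTrans.Equifibered.of_discrete _)).2 ?_
  · refine NatTrans.ext (funext fun ⟨i⟩ => ?_)
    exact (h i).w.symm
  · rintro ⟨i⟩
    exact h i

/-- The morphism from a finite disjoint union of affine flat `Z`-schemes jointly surjective onto
the affine `Z` is surjective and flat, and the source is affine. -/
lemma sigmaDesc_props {Z : Scheme.{u}} {ι : Type u} [Finite ι] (W : ι → Scheme.{u})
    (c : ∀ j, W j ⟶ Z) [∀ j, IsAffine (W j)] (hflat : ∀ j, Flat (c j))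
    (hsurj : ∀ z : Z, ∃ j, z ∈ Set.range (c j)) :
    IsAffine (∐ W) ∧ Surjective (Sigma.desc c) ∧ Flat (Sigma.desc c) := by
  refine ⟨inferInstance, ⟨fun z => ?_⟩, IsZariskiLocalAtSource.sigmaDesc (P := @Flat) hflat⟩
  obtain ⟨j, y, hy⟩ := hsurj z
  refine ⟨Sigma.ι W j y, ?_⟩
  rw [← Scheme.Hom.comp_apply, Sigma.ι_desc, hy]

variable {ι : Type u} (W : ι → Over S)

/-- The morphism from the disjoint union induced by a family of morphisms. -/
noncomputable def sigmaOverDesc {Z : Over S} (c : ∀ j, W j ⟶ Z) : sigmaOver W ⟶ Z :=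
  Over.homMk (Sigma.desc fun j => (c j).left) (by
    apply Sigma.hom_ext
    intro j
    simp [sigmaOver])

@[reassoc (attr := simp)]
lemma sigmaOverι_desc {Z : Over S} (c : ∀ j, W j ⟶ Z) (j : ι) :
    sigmaOverι W j ≫ sigmaOverDesc W c = c j := by
  ext1
  simp only [Over.comp_left, sigmaOverι_left, sigmaOverDesc, Over.homMk_left]
  exact Sigma.ι_desc _ _

/-- Key step of the criterion: descent of `P` along a finite flat affine jointly surjective family
over an affine scheme. -/
lemma prop_of_finite_family (P : MorphismProperty (Sp S))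
    (h1 : ∀ ⦃ι : Type u⦄ [Finite ι] (Xi Yi : ι → Sp S) (fi : ∀ i, Xi i ⟶ Yi i)
      (cX : Cofan Xi) (cY : Cofan Yi) (hcX : IsColimit cX) (hcY : IsColimit cY)
      (m : cX.pt ⟶ cY.pt),
      (∀ i, IsAlgSpace (Xi i)) → (∀ i, IsAlgSpace (Yi i)) →
      IsAlgSpace cX.pt → IsAlgSpace cY.pt →
      (∀ i, cX.inj i ≫ m = fi i ≫ cY.inj i) → (∀ i, P (fi i)) → P m)
    (h3 : ∀ ⦃Z Z' : Over S⦄ (c : Z' ⟶ Z), IsAffine Z.left → IsAffine Z'.left →
      Surjective c.left → Flat c.left →
      ∀ ⦃X X' : Sp S⦄ (f : X ⟶ (yon S).obj Z) (fst : X' ⟶ X) (f' : X' ⟶ (yon S).obj Z'),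
        IsAlgSpace X → IsAlgSpace X' → IsPullback fst f' f ((yon S).map c) → P f' → P f)
    [Finite ι] {Z : Over S} (hZ : IsAffine Z.left) (c : ∀ j, W j ⟶ Z)
    (hWaff : ∀ j, IsAffine (W j).left) (hflat : ∀ j, Flat (c j).left)
    (hsurj : ∀ z : ↥Z.left, ∃ j, z ∈ Set.range (c j).left)
    {X Y Wp : Sp S} (hX : IsAlgSpace X) (hY : IsAlgSpace Y) (hWp : IsAlgSpace Wp) (f : X ⟶ Y)
    (hZY : (yon S).obj Z ⟶ Y) (a : Wp ⟶ X) (b : Wp ⟶ (yon S).obj Z)
    (sqW : IsPullback a b f hZY)
    (hQ : ∀ j, P (pullback.snd f ((yon S).map (c j) ≫ hZY))) : P b := by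
  have hprops := sigmaDesc_props (fun j => (W j).left) (fun j => (c j).left) hflat hsurj
  have hYZ : IsAlgSpace ((yon S).obj Z) := IsAlgSpace.yon_obj Z
  have sqt := IsPullback.of_hasPullback b ((yon S).map (sigmaOverDesc W c))
  have hXt : IsAlgSpace (pullback b ((yon S).map (sigmaOverDesc W c))) :=
    isAlgSpace_pullback hYZ.diag hWp (IsAlgSpace.yon_obj _) sqt
  refine h3 (sigmaOverDesc W c) hZ hprops.1 hprops.2.1 hprops.2.2 b
    (pullback.fst b ((yon S).map (sigmaOverDesc W c)))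
    (pullback.snd b ((yon S).map (sigmaOverDesc W c))) hWp hXt sqt ?_
  -- the legs of the cofan on the source
  have hcond : ∀ j, pullback.fst f ((yon S).map (c j) ≫ hZY) ≫ f =
        (pullback.snd f ((yon S).map (c j) ≫ hZY) ≫ (yon S).map (c j)) ≫ hZY := by
    intro j
    rw [Category.assoc]
    exact pullback.condition
  have hcond2 : ∀ j,
      sqW.lift (pullback.fst f ((yon S).map (c j) ≫ hZY))
        (pullback.snd f ((yon S).map (c j) ≫ hZY) ≫ (yon S).map (c j)) (hcond j) ≫ b =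
      (pullback.snd f ((yon S).map (c j) ≫ hZY) ≫ (yon S).map (sigmaOverι W j)) ≫
        (yon S).map (sigmaOverDesc W c) := by
    intro j
    rw [sqW.lift_snd, Category.assoc, ← Functor.map_comp, sigmaOverι_desc]
  have hpb : ∀ j,
      IsPullback (pullback.lift _ _ (hcond2 j)) (pullback.snd f ((yon S).map (c j) ≫ hZY))
        (pullback.snd b ((yon S).map (sigmaOverDesc W c)))
        ((yon S).map (sigmaOverι W j)) := by
    intro j
    refine IsPullback.of_right ?_ (pullback.lift_snd _ _ _) (sqt.paste_horiz sqW)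
    rw [pullback.lift_fst_assoc, sqW.lift_fst, ← Category.assoc, ← Functor.map_comp,
      sigmaOverι_desc]
    exact IsPullback.of_hasPullback _ _
  have hXi : ∀ j, IsAlgSpace (pullback f ((yon S).map (c j) ≫ hZY)) :=
    fun j => isAlgSpace_pullback hY.diag hX (IsAlgSpace.yon_obj _) (IsPullback.of_hasPullback _ _)
  obtain ⟨hcX⟩ := cofan_isColimit_of_isPullback
    (fun j => pullback.snd f ((yon S).map (c j) ≫ hZY))
    (Cofan.mk _ fun j => pullback.lift _ _ (hcond2 j)) (yonCofan W) (yonCofanIsColimit W)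
    (pullback.snd b ((yon S).map (sigmaOverDesc W c))) hpb
  exact h1 _ _ (fun j => pullback.snd f ((yon S).map (c j) ≫ hZY))
    _ _ hcX (yonCofanIsColimit W) _ hXi (fun j => IsAlgSpace.yon_obj _) hXt
    (IsAlgSpace.yon_obj _) (fun j => (hpb j).w) hQ

/-- General criterion for a property to be fpqc local on the base. -/
theorem isLocalOnBase_fpqc_of_affine_criterion (P : MorphismProperty (Sp S))
    (h1 : ∀ ⦃ι : Type u⦄ [Finite ι] (Xi Yi : ι → Sp S) (fi : ∀ i, Xi i ⟶ Yi i)
      (cX : Cofan Xi) (cY : Cofan Yi) (hcX : IsColimit cX) (hcY : IsColimit cY)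
      (m : cX.pt ⟶ cY.pt),
      (∀ i, IsAlgSpace (Xi i)) → (∀ i, IsAlgSpace (Yi i)) →
      IsAlgSpace cX.pt → IsAlgSpace cY.pt →
      (∀ i, cX.inj i ≫ m = fi i ≫ cY.inj i) → (∀ i, P (fi i)) → P m)
    (h2 : ∀ ⦃X Y : Sp S⦄, IsAlgSpace X → IsAlgSpace Y → ∀ (f : X ⟶ Y),
      P f ↔ ∀ (Z : Over S), IsAffine Z.left → ∀ (g : (yon S).obj Z ⟶ Y) (W : Sp S)
        (fst : W ⟶ X) (snd : W ⟶ (yon S).obj Z), IsAlgSpace W → IsPullback fst snd f g → P snd)
    (h3 : ∀ ⦃Z Z' : Over S⦄ (c : Z' ⟶ Z), IsAffine Z.left → IsAffine Z'.left →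
      Surjective c.left → Flat c.left →
      ∀ ⦃X X' : Sp S⦄ (f : X ⟶ (yon S).obj Z) (fst : X' ⟶ X) (f' : X' ⟶ (yon S).obj Z'),
        IsAlgSpace X → IsAlgSpace X' → IsPullback fst f' f ((yon S).map c) → P f' → P f) :
    IsLocalOnBase (IsFpqcCover (S := S)) P := by
  apply isLocalOnBase_fpqc_of
  · intro X Y X' Y' f g fst f' hX hY hY' sq hf
    have hX' : IsAlgSpace X' := isAlgSpace_pullback hY.diag hX hY' sq
    rw [h2 hX' hY']
    intro Z hZ k Wp a b hWp sq'
    exact (h2 hX hY f).1 hf Z hZ (k ≫ g) Wp (a ≫ fst) b hWp (sq'.paste_horiz sq)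
  · intro X Y f hX hY hloc
    rw [h2 hX hY]
    intro Z hZ hZY Wp a b hWp sqW
    obtain ⟨m, W, c, hWaff, hflat, hsurj, hQ⟩ := hloc Z hZ hZY
    refine prop_of_finite_family (fun j : ULift.{u} (Fin m) => W j.down) P h1 h3 hZ
      (fun j => c j.down) (fun j => hWaff j.down) (fun j => hflat j.down) (fun z => ?_) hX hY hWp
      f hZY a b sqW (fun j => hQ j.down)
    obtain ⟨j, hj⟩ := hsurj z
    exact ⟨⟨j⟩, hj⟩

end Criterion

end Groth.Agent.H3.AlgSpCov
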