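import Mathlib
import Groth.Agent.Lib.Helper5.EtSrc.Easy

set_option autoImplicit false
set_option linter.overlappingInstances false

universe u

open CategoryTheory CategoryTheory.Limits AlgebraicGeometry MorphismProperty

namespace Groth.Agent.H3.AlgSpCov

open Groth.Agent.H5.EtSrc

/-- Ring-level: flatness descends along a flat local homomorphism of local rings. -/
lemma ringHom_flat_of_comp_of_local {A B C : Type u} [CommRing A] [CommRing B] [CommRing C]
    [IsLocalRing B] [IsLocalRing C] (φ : A →+* B) (ψ : B →+* C) [IsLocalHom ψ]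
    (hψ : ψ.Flat) (h : (ψ.comp φ).Flat) : φ.Flat := by
  algebraize [φ, ψ, ψ.comp φ]
  have : IsLocalHom (algebraMap B C) := ‹IsLocalHom ψ›
  have : Module.FaithfullyFlat B C := Module.FaithfullyFlat.of_flat_of_isLocalHom
  exact flat_of_flat_of_faithfullyFlat (A := A) (B := B) (C := C)

/-- Flatness is local on the source for jointly surjective flat families. -/
theorem flat_of_flat_family {U V : Scheme.{u}} (h : U ⟶ V) {K : Type*} (Uk : K → Scheme.{u})
    (d : ∀ k, Uk k ⟶ U) (hd : ∀ k, Flat (d k)) (hs : ∀ u : U, ∃ k, u ∈ Set.range (d k))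
    (hc : ∀ k, Flat (d k ≫ h)) : Flat h := by
  rw [Flat.iff_flat_stalkMap]
  intro u
  obtain ⟨k, w, rfl⟩ := hs u
  have := hc k
  have := hd k
  have h1 := Flat.stalkMap (d k ≫ h) w
  have h2 := Flat.stalkMap (d k) w
  rw [Scheme.Hom.stalkMap_comp] at h1
  have h1' : ((Scheme.Hom.stalkMap (d k) w).hom.comp
      (Scheme.Hom.stalkMap h ((d k) w)).hom).Flat := h1
  exact ringHom_flat_of_comp_of_local _ _ h2 h1'

end Groth.Agent.H3.AlgSpCov
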