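import Mathlib
import Groth.Agent.Lib.Helper5.AlgSp.FppfLocal

set_option autoImplicit false
set_option linter.overlappingInstances false

universe u

open CategoryTheory CategoryTheory.Limits AlgebraicGeometry MorphismProperty

namespace Groth.Agent.H3.AlgSpCov

/-- Quasi-compactness descends along surjective quasi-compact morphisms. -/
theorem quasiCompact_of_pullback_fst_qc {X Y Z : Scheme.{u}} (f : X ⟶ Z) (g : Y ⟶ Z)
    [Surjective f] [QuasiCompact f] (h : QuasiCompact (pullback.fst f g)) :
    QuasiCompact g := by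
  rw [quasiCompact_iff_forall_isAffineOpen]
  intro V hV
  have h0 : IsCompact ((f ⁻¹ᵁ V : X.Opens) : Set X) := f.isCompact_preimage hV.isCompact
  have h1 : IsCompact ((pullback.fst f g) ⁻¹ᵁ (f ⁻¹ᵁ V) : Set ↑(pullback f g)) :=
    (pullback.fst f g).isCompact_preimage h0
  have h2 := Scheme.image_preimage_eq_of_isPullback (IsPullback.of_hasPullback f g)
    ((f ⁻¹ᵁ V : X.Opens) : Set X)
  have h3 : (g ⁻¹ᵁ V : Set Y) = (pullback.snd f g) '' ((pullback.fst f g) ⁻¹ᵁ (f ⁻¹ᵁ V) : Set _) := by
    rw [show ((g ⁻¹ᵁ V : Y.Opens) : Set Y) = g ⁻¹' (V : Set Z) from rfl]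
    have : f '' ((f ⁻¹ᵁ V : X.Opens) : Set X) = (V : Set Z) :=
      Set.image_preimage_eq _ f.surjective
    rw [← this]
    exact h2.symm
  rw [h3]
  exact h1.image (pullback.snd f g).continuous

instance descendsAlong_quasiCompact_fpqc :
    DescendsAlong @QuasiCompact (@Surjective ⊓ @Flat ⊓ @QuasiCompact) := by
  apply DescendsAlong.mk'
  intro X Y Z f g _ hf h
  obtain ⟨⟨h1, _⟩, h3⟩ := hf
  have : Surjective f := h1
  have : QuasiCompact f := h3
  exact quasiCompact_of_pullback_fst_qc f g h

instance descendsAlong_isSeparated_fpqc :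
    DescendsAlong @IsSeparated (@Surjective ⊓ @Flat ⊓ @QuasiCompact) := by
  rw [Groth.Agent.H5.AlgSp.isSeparated_eq_diagonal_universallyClosed]
  infer_instance

instance descendsAlong_quasiSeparated_fpqc :
    DescendsAlong @QuasiSeparated (@Surjective ⊓ @Flat ⊓ @QuasiCompact) := by
  rw [quasiSeparated_eq_diagonal_is_quasiCompact]
  infer_instance

instance descendsAlong_mono_fpqc :
    DescendsAlong (MorphismProperty.monomorphisms Scheme.{u})
      (@Surjective ⊓ @Flat ⊓ @QuasiCompact) := by
  rw [← MorphismProperty.diagonal_isomorphisms]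
  infer_instance

instance descendsAlong_isProper_fpqc :
    DescendsAlong @IsProper (@Surjective ⊓ @Flat ⊓ @QuasiCompact) := by
  rw [Groth.Agent.H5.AlgSp.isProper_eq_inf]
  infer_instance

instance descendsAlong_isClosedImmersion_fpqc :
    DescendsAlong @IsClosedImmersion (@Surjective ⊓ @Flat ⊓ @QuasiCompact) := by
  rw [IsClosedImmersion.eq_proper_inf_monomorphisms]
  infer_instance

end Groth.Agent.H3.AlgSpCov
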