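import Mathlib
import Groth.Agent.Lib.Helper3.AlgSpCov.Basic
import Groth.Agent.Lib.Helper5.AlgSp.LocPCalc

set_option autoImplicit false
set_option linter.overlappingInstances false

universe u

open CategoryTheory CategoryTheory.Limits AlgebraicGeometry MorphismProperty Opposite

namespace Groth.Agent.H3.AlgSpCov

open _root_.AlgSp Groth.Agent.H5.AlgSp Groth.Agent.H5.EtSrc

variable {S : Scheme.{u}}

section

variable {P : MorphismProperty Scheme.{u}} [P.IsStableUnderBaseChange]
  [P.IsStableUnderComposition] [IsEtaleLocalSource P]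

theorem bcStable_locP (hP : (@Etale : MorphismProperty Scheme.{u}) ≤ P) :
    BCStable (LocP (S := S) P) := by
  intro X Y X' Y' f g fst f' hX hY hY' sq hf
  exact locP_of_isPullback hP sq hX hY hY' hf

omit [P.IsStableUnderBaseChange] [P.IsStableUnderComposition] [IsEtaleLocalSource P] in
/-- Key step: from `LocP P` of the base change of `f` to `W` to `P` of the base change of a chart. -/
theorem prop_chart_baseChange {X Y : Sp S} (f : X ⟶ Y) {V U W : Over S} (b : (yon S).obj V ⟶ Y)
    (a : (yon S).obj U ⟶ pullback f b) (hae : RepWith @Etale a) (h : U ⟶ V)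
    (hh : (yon S).map h = a ≫ pullback.snd f b) (w : W ⟶ V)
    (hQ : LocP P (pullback.snd f ((yon S).map w ≫ b))) :
    P (pullback.snd h w).left := by
  -- t : T ⟶ X_V
  have hw : pullback.fst f ((yon S).map w ≫ b) ≫ f =
      (pullback.snd f ((yon S).map w ≫ b) ≫ (yon S).map w) ≫ b := by
    rw [pullback.condition, Category.assoc]
  let t : pullback f ((yon S).map w ≫ b) ⟶ pullback f b := pullback.lift _ _ hw
  have bot : IsPullback t (pullback.snd f ((yon S).map w ≫ b)) (pullback.snd f b)
      ((yon S).map w) := by
    refine IsPullback.of_right (h₁₂ := pullback.fst f b) (h₂₂ := b) ?_ (pullback.lift_snd _ _ hw)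
      (IsPullback.of_hasPullback f b)
    rw [pullback.lift_fst]
    exact IsPullback.of_hasPullback _ _
  -- e : h_A ⟶ T
  have he : ((yon S).map (pullback.fst h w) ≫ a ≫ pullback.fst f b) ≫ f =
      (yon S).map (pullback.snd h w) ≫ (yon S).map w ≫ b := by
    rw [Category.assoc, Category.assoc, pullback.condition, ← Category.assoc a, ← hh,
      ← Category.assoc, ← Functor.map_comp, pullback.condition, Functor.map_comp, Category.assoc]
  let e : (yon S).obj (pullback h w) ⟶ pullback f ((yon S).map w ≫ b) := pullback.lift _ _ he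
  have he1 : e ≫ t = (yon S).map (pullback.fst h w) ≫ a := by
    apply pullback.hom_ext
    · rw [Category.assoc, pullback.lift_fst, pullback.lift_fst, Category.assoc]
    · rw [Category.assoc, pullback.lift_snd, ← Category.assoc, pullback.lift_snd, Category.assoc,
        ← hh, ← Functor.map_comp, ← Functor.map_comp, pullback.condition]
  have big : IsPullback ((yon S).map (pullback.fst h w))
      (e ≫ pullback.snd f ((yon S).map w ≫ b)) (a ≫ pullback.snd f b) ((yon S).map w) := by
    rw [pullback.lift_snd, ← hh]
    exact (IsPullback.of_hasPullback h w).map (yon S)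
  have top : IsPullback ((yon S).map (pullback.fst h w)) e a t :=
    IsPullback.of_bot big he1.symm bot
  have hee : RepWith @Etale e := MorphismProperty.of_isPullback (P := RepWith @Etale) top hae
  exact hQ e (𝟙 _) (pullback.snd h w) hee (repWith_id _ W)
    (by rw [pullback.lift_snd, Category.comp_id])

theorem fpqcLocal_locP (hP : (@Etale : MorphismProperty Scheme.{u}) ≤ P)
    [IsZariskiLocalAtTarget P] [P.DescendsAlong (@Surjective ⊓ @Flat ⊓ @QuasiCompact)] :
    FpqcLocal (LocP (S := S) P) := by
  intro X Y f hX hY hyp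
  obtain ⟨V, b, hbe, hbs⟩ := hY.atlas
  have sqV := IsPullback.of_hasPullback f b
  have hXV : IsAlgSpace (pullback f b) :=
    isAlgSpace_pullback hY.diag hX (IsAlgSpace.yon_obj V) sqV
  refine locP_of_baseChange_etale_surjective hP sqV hXV (IsAlgSpace.yon_obj V) hbe hbs ?_
  obtain ⟨U, a, hae, has⟩ := hXV.atlas
  obtain ⟨h, hh⟩ := (yon S).map_surjective (a ≫ pullback.snd f b)
  refine locP_of_one_chart hP a (𝟙 _) h hae has (repWith_id _ V)
    (by rw [hh, Category.comp_id]) ?_
  rw [IsZariskiLocalAtTarget.iff_of_openCover (P := P) V.left.affineCover]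
  intro k
  let V' : Over S := Over.mk (V.left.affineCover.f k ≫ V.hom)
  let ι : V' ⟶ V := Over.homMk (V.left.affineCover.f k) rfl
  have hV' : IsAffine V'.left := by dsimp [V']; infer_instance
  obtain ⟨m, W, c, haff, hflat, hsurj, hQ⟩ := hyp V' hV' ((yon S).map ι ≫ b)
  have hQ' : ∀ j, P (pullback.snd h (c j ≫ ι)).left := by
    intro j
    refine prop_chart_baseChange f b a hae h hh (c j ≫ ι) ?_
    have key : ∀ (x : (yon S).obj (W j) ⟶ Y), x = (yon S).map (c j ≫ ι) ≫ b →
        LocP P (pullback.snd f x) → LocP P (pullback.snd f ((yon S).map (c j ≫ ι) ≫ b)) := by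
      rintro x rfl h
      exact h
    exact key _ (by rw [Functor.map_comp, Category.assoc]) (hQ j)
  change P (pullback.snd h.left (V.left.affineCover.f k))
  -- the scheme-level squares
  have sqS : ∀ j, IsPullback (pullback.fst h (c j ≫ ι)).left (pullback.snd h (c j ≫ ι)).left
      h.left ((c j).left ≫ V.left.affineCover.f k) := fun j =>
    (IsPullback.of_hasPullback h (c j ≫ ι)).map (Over.forget S)
  have hwj : ∀ j, (pullback.fst h (c j ≫ ι)).left ≫ h.left =
      ((pullback.snd h (c j ≫ ι)).left ≫ (c j).left) ≫ V.left.affineCover.f k := fun j => by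
    rw [(sqS j).w, Category.assoc]
  have : IsAffine (V.left.affineCover.X k) := hV'
  have : ∀ j, IsAffine ((fun j => (W j).left) j) := haff
  refine of_finite_flat_family (P := P) (pullback.snd h.left (V.left.affineCover.f k))
    (fun j => (W j).left) (fun j => (c j).left) hflat hsurj
    (fun j => (pullback h (c j ≫ ι)).left)
    (fun j => pullback.lift _ _ (hwj j)) (fun j => (pullback.snd h (c j ≫ ι)).left) ?_ hQ'
  intro j
  refine IsPullback.of_right (h₁₂ := pullback.fst h.left (V.left.affineCover.f k))
    (h₂₂ := V.left.affineCover.f k) ?_ (pullback.lift_snd _ _ (hwj j))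
    (IsPullback.of_hasPullback _ _)
  rw [pullback.lift_fst]
  exact sqS j

end

end Groth.Agent.H3.AlgSpCov
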