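import Mathlib
import Groth.Agent.Lib.Helper3.AlgSpCov.LocPBase
import Groth.Agent.Lib.Helper5.AlgSp.FlatDescentMore

set_option autoImplicit false

universe u

open CategoryTheory CategoryTheory.Limits AlgebraicGeometry MorphismProperty Opposite

namespace Groth.Agent.H3.AlgSpCov

open _root_.AlgSp Groth.Agent.H5.AlgSp Groth.Agent.H5.EtSrc

variable {S : Scheme.{u}}

theorem isLocalOnBase_fpqc_locP {P : MorphismProperty Scheme.{u}} [P.IsStableUnderBaseChange]
    [P.IsStableUnderComposition] [IsEtaleLocalSource P]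
    (hP : (@Etale : MorphismProperty Scheme.{u}) ≤ P)
    [IsZariskiLocalAtTarget P] [P.DescendsAlong (@Surjective ⊓ @Flat ⊓ @QuasiCompact)] :
    IsLocalOnBase (IsFpqcCover (S := S)) (LocP P) :=
  isLocalOnBase_fpqc_of (bcStable_locP hP) (fpqcLocal_locP hP)

lemma etale_le_lft : (@Etale : MorphismProperty Scheme.{u}) ≤ @LocallyOfFiniteType :=
  fun _ _ f hf => by have : Etale f := hf; infer_instance

lemma etale_le_smooth : (@Etale : MorphismProperty Scheme.{u}) ≤ @Smooth :=
  fun _ _ f hf => by have : Etale f := hf; infer_instance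

theorem isLocalOnBase_fpqc_lft : IsLocalOnBase (IsFpqcCover (S := S)) (LocP @LocallyOfFiniteType) :=
  isLocalOnBase_fpqc_locP etale_le_lft

theorem isLocalOnBase_fpqc_lfp : IsLocalOnBase (IsFpqcCover (S := S)) (LocP @LocallyOfFinitePresentation) :=
  isLocalOnBase_fpqc_locP etale_le_lfp

theorem isLocalOnBase_fpqc_flat : IsLocalOnBase (IsFpqcCover (S := S)) (LocP @Flat) :=
  isLocalOnBase_fpqc_locP etale_le_flat

theorem isLocalOnBase_fpqc_smooth : IsLocalOnBase (IsFpqcCover (S := S)) (LocP @Smooth) :=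
  isLocalOnBase_fpqc_locP etale_le_smooth





theorem isEtaleMor_iff_locP {F G : Sp S} (hG : IsAlgSpace G) (f : F ⟶ G) :
    IsEtaleMor f ↔ LocP @Etale f := by
  constructor
  · intro hf U V a b h ha hb comm
    have h1 : RepWith @Etale ((yon S).map h ≫ b) := by rw [← comm]; exact hf a ha
    exact (repWith_yon_map_iff @Etale h).1 (repWith_etale_of_comp h1 hb)
  · intro hf U φ hφ
    exact repWith_of_locP hG (hG.representable_from_yon _) (locP_comp_etale hφ hf)

theorem isLocalOnBase_fpqc_locP_etale : IsLocalOnBase (IsFpqcCover (S := S)) (LocP @Etale) :=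
  isLocalOnBase_fpqc_locP le_rfl

theorem isLocalOnBase_fpqc_lqf : IsLocalOnBase (IsFpqcCover (S := S)) (LocP (@LocallyQuasiFinite ⊓ @LocallyOfFiniteType)) :=
  isLocalOnBase_fpqc_locP (fun _ _ f hf => by
    have : Etale f := hf
    exact ⟨locallyQuasiFinite_of_etale f, inferInstance⟩)

theorem isLocalOnBase_fpqc_unram : IsLocalOnBase (IsFpqcCover (S := S)) (LocP (@LocallyOfFiniteType ⊓ @FormallyUnramified)) :=
  isLocalOnBase_fpqc_locP (fun _ _ f hf => by
    have : Etale f := hf
    exact ⟨inferInstance, inferInstance⟩)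


/-- Transfer of `IsLocalOnBase` along a pointwise equivalence on morphisms of algebraic spaces. -/
theorem isLocalOnBase_congr {τ : CovNotion S} {Q Q' : MorphismProperty (Sp S)}
    (hQ : ∀ ⦃X Y : Sp S⦄ (f : X ⟶ Y), IsAlgSpace X → IsAlgSpace Y → (Q f ↔ Q' f))
    (h : IsLocalOnBase τ Q) : IsLocalOnBase τ Q' := by
  intro ι Y Yi g hY hYi hcov X f hX Xi p q hXi sq
  have e1 := h Yi g hY hYi hcov f hX Xi p q hXi sq
  rw [← hQ f hX hY, e1]
  exact forall_congr' fun i => hQ (p i) (hXi i) (hYi i)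

/-- Conjunction of two properties local on the base. -/
theorem isLocalOnBase_and {τ : CovNotion S} {Q Q' : MorphismProperty (Sp S)}
    (h : IsLocalOnBase τ Q) (h' : IsLocalOnBase τ Q') :
    IsLocalOnBase τ (fun _ _ f => Q f ∧ Q' f) := by
  intro ι Y Yi g hY hYi hcov X f hX Xi p q hXi sq
  have e1 := h Yi g hY hYi hcov f hX Xi p q hXi sq
  have e2 := h' Yi g hY hYi hcov f hX Xi p q hXi sq
  change (Q f ∧ Q' f) ↔ ∀ i, Q (p i) ∧ Q' (p i)
  rw [e1, e2]
  exact forall_and.symm

theorem isLocalOnBase_fpqc_isEtaleMor : IsLocalOnBase (IsFpqcCover (S := S)) IsEtaleMor :=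
  isLocalOnBase_congr (fun _ _ f _ hY => (isEtaleMor_iff_locP hY f).symm)
    isLocalOnBase_fpqc_locP_etale

end Groth.Agent.H3.AlgSpCov
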