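import Mathlib
import Groth.Agent.Lib.Helper3.AlgSpCov.Basic

set_option autoImplicit false
set_option linter.overlappingInstances false

universe u

open CategoryTheory CategoryTheory.Limits AlgebraicGeometry MorphismProperty Opposite

namespace Groth.Agent.H3.AlgSpCov

/-- A subset of a scheme is open as soon as its preimages under an open cover are. -/
lemma isOpen_of_openCover {X : Scheme.{u}} (𝒰 : X.OpenCover) (A : Set X)
    (h : ∀ i, IsOpen ((𝒰.f i) ⁻¹' A)) : IsOpen A := by
  rw [𝒰.isOpenCover_opensRange.isOpen_iff_inter]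
  intro i
  rw [Scheme.Hom.coe_opensRange, ← Set.image_preimage_eq_inter_range]
  exact (𝒰.f i).isOpenEmbedding.isOpenMap _ (h i)

/-- Scheme-level: the base change of a standard fpqc covering is jointly submersive. -/
theorem isOpen_of_forall_preimage {Z U : Scheme.{u}} [IsAffine Z] (u : U ⟶ Z) {m : ℕ}
    (W : Fin m → Scheme.{u}) (c : ∀ j, W j ⟶ Z) [∀ j, IsAffine (W j)] (hflat : ∀ j, Flat (c j))
    (hsurj : ∀ z : Z, ∃ j, z ∈ Set.range (c j))
    (B : Fin m → Scheme.{u}) (a : ∀ j, B j ⟶ U) (b : ∀ j, B j ⟶ W j)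
    (sq : ∀ j, IsPullback (a j) (b j) u (c j)) (A : Set U)
    (hA : ∀ j, IsOpen ((a j) ⁻¹' A)) : IsOpen A := by
  let p : ∐ W ⟶ Z := Sigma.desc c
  obtain ⟨⟨hp1, hp2⟩, hp3⟩ := fpqc_sigmaDesc W c hflat hsurj
  have : Surjective p := hp1
  have : Flat p := hp2
  have : QuasiCompact p := hp3
  have hq : Topology.IsQuotientMap (pullback.fst u p) := Flat.isQuotientMap_of_surjective _
  rw [← hq.isOpen_preimage]
  refine isOpen_of_openCover ((sigmaOpenCover W).pullback₁ (pullback.snd u p)) _ fun (j : Fin m) => ?_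
  change IsOpen ((pullback.fst (pullback.snd u p) (Sigma.ι W j)) ⁻¹' ((pullback.fst u p) ⁻¹' A))
  have sq' : IsPullback (pullback.fst (pullback.snd u p) (Sigma.ι W j) ≫ pullback.fst u p)
      (pullback.snd (pullback.snd u p) (Sigma.ι W j)) u (Sigma.ι W j ≫ p) :=
    IsPullback.paste_horiz (IsPullback.of_hasPullback _ _) (IsPullback.of_hasPullback u p)
  have e : Sigma.ι W j ≫ p = c j := Sigma.ι_desc _ _
  rw [e] at sq'
  let φ := sq'.isoIsPullback _ _ (sq j)
  have h1 : φ.hom ≫ a j = pullback.fst (pullback.snd u p) (Sigma.ι W j) ≫ pullback.fst u p :=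
    sq'.isoIsPullback_hom_fst _ _ (sq j)
  have h2 : (pullback.fst (pullback.snd u p) (Sigma.ι W j)) ⁻¹' ((pullback.fst u p) ⁻¹' A) =
      φ.hom ⁻¹' ((a j) ⁻¹' A) := by
    ext x
    simp only [Set.mem_preimage]
    rw [← Scheme.Hom.comp_apply, ← Scheme.Hom.comp_apply, h1]
  rw [h2]
  exact (hA j).preimage φ.hom.continuous

end Groth.Agent.H3.AlgSpCov
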