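import Mathlib
import Groth.Agent.Lib.Helper3.AlgSpCov.SchemeTop
import Groth.Agent.Lib.Helper5.AlgSp.UnivTop
import Groth.Agent.Lib.Helper5.AlgSp.PointsTop

set_option autoImplicit false
set_option linter.overlappingInstances false
set_option linter.unusedSectionVars false

universe u

open CategoryTheory CategoryTheory.Limits AlgebraicGeometry MorphismProperty Opposite Topology

namespace Groth.Agent.H3.AlgSpCov

open _root_.AlgSp Groth.Agent.H5.AlgSp

/-! ### Pure topology: descent of topological properties along jointly submersive families -/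

section Top

variable {ι : Type*} {X Z : Type*} [TopologicalSpace X] [TopologicalSpace Z]
  {Xj Zj : ι → Type*} [∀ j, TopologicalSpace (Xj j)] [∀ j, TopologicalSpace (Zj j)]
  (s : X → Z) (πZ : ∀ j, Zj j → Z) (πX : ∀ j, Xj j → X) (sj : ∀ j, Xj j → Zj j)

include πX sj in
theorem top_preimage_image (comm : ∀ j w, πZ j (sj j w) = s (πX j w))
    (fib : ∀ j x z, s x = πZ j z → ∃ w, πX j w = x ∧ sj j w = z) (j : ι) (A : Set X) :
    πZ j ⁻¹' (s '' A) = sj j '' (πX j ⁻¹' A) := by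
  ext z
  constructor
  · rintro ⟨x, hx, hxz⟩
    obtain ⟨w, hw1, hw2⟩ := fib j x z hxz
    exact ⟨w, by rw [Set.mem_preimage, hw1]; exact hx, hw2⟩
  · rintro ⟨w, hw, rfl⟩
    exact ⟨πX j w, hw, (comm j w).symm⟩

theorem top_isOpenMap (comm : ∀ j w, πZ j (sj j w) = s (πX j w))
    (fib : ∀ j x z, s x = πZ j z → ∃ w, πX j w = x ∧ sj j w = z)
    (hZo : ∀ A : Set Z, (∀ j, IsOpen (πZ j ⁻¹' A)) → IsOpen A)
    (hXc : ∀ j, Continuous (πX j)) (h : ∀ j, IsOpenMap (sj j)) : IsOpenMap s := by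
  intro A hA
  refine hZo _ fun j => ?_
  rw [top_preimage_image s πZ πX sj comm fib]
  exact h j _ (hA.preimage (hXc j))

theorem top_isClosedMap (comm : ∀ j w, πZ j (sj j w) = s (πX j w))
    (fib : ∀ j x z, s x = πZ j z → ∃ w, πX j w = x ∧ sj j w = z)
    (hZo : ∀ A : Set Z, (∀ j, IsOpen (πZ j ⁻¹' A)) → IsOpen A)
    (hXc : ∀ j, Continuous (πX j)) (h : ∀ j, IsClosedMap (sj j)) : IsClosedMap s := by
  intro A hA
  rw [← isOpen_compl_iff]
  refine hZo _ fun j => ?_
  rw [Set.preimage_compl, isOpen_compl_iff, top_preimage_image s πZ πX sj comm fib]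
  exact h j _ (hA.preimage (hXc j))

include πX sj in
theorem top_injective
    (fib : ∀ j x z, s x = πZ j z → ∃ w, πX j w = x ∧ sj j w = z)
    (hZs : ∀ z, ∃ j, z ∈ Set.range (πZ j))
    (h : ∀ j, Function.Injective (sj j)) : Function.Injective s := by
  intro x₁ x₂ hx
  obtain ⟨j, z, hz⟩ := hZs (s x₁)
  obtain ⟨w₁, hw₁, hw₁'⟩ := fib j x₁ z hz.symm
  obtain ⟨w₂, hw₂, hw₂'⟩ := fib j x₂ z (by rw [← hx, hz])
  have : w₁ = w₂ := h j (hw₁'.trans hw₂'.symm)
  rw [← hw₁, ← hw₂, this]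

include πX sj in
theorem top_surjective (comm : ∀ j w, πZ j (sj j w) = s (πX j w))
    (hZs : ∀ z, ∃ j, z ∈ Set.range (πZ j))
    (h : ∀ j, Function.Surjective (sj j)) : Function.Surjective s := by
  intro z
  obtain ⟨j, z', rfl⟩ := hZs z
  obtain ⟨w, rfl⟩ := h j z'
  exact ⟨πX j w, (comm j w).symm⟩

theorem top_isQuotientMap (comm : ∀ j w, πZ j (sj j w) = s (πX j w))
    (hZo : ∀ A : Set Z, (∀ j, IsOpen (πZ j ⁻¹' A)) → IsOpen A)
    (hZs : ∀ z, ∃ j, z ∈ Set.range (πZ j))
    (hXc : ∀ j, Continuous (πX j)) (hs : Continuous s)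
    (h : ∀ j, IsQuotientMap (sj j)) : IsQuotientMap s := by
  rw [isQuotientMap_iff]
  refine ⟨.of_isOpen_preimage_iff_isOpen fun A => ⟨fun hA => hZo _ fun j => ?_, fun hA =>
    hA.preimage hs⟩, top_surjective s πZ πX sj comm hZs fun j => (h j).surjective⟩
  rw [← (h j).isOpen_preimage, ← Set.preimage_comp]
  have : πZ j ∘ sj j = s ∘ πX j := funext (comm j)
  rw [this, Set.preimage_comp]
  exact hA.preimage (hXc j)

theorem top_isHomeomorph (comm : ∀ j w, πZ j (sj j w) = s (πX j w))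
    (fib : ∀ j x z, s x = πZ j z → ∃ w, πX j w = x ∧ sj j w = z)
    (hZo : ∀ A : Set Z, (∀ j, IsOpen (πZ j ⁻¹' A)) → IsOpen A)
    (hZs : ∀ z, ∃ j, z ∈ Set.range (πZ j))
    (hXc : ∀ j, Continuous (πX j)) (hs : Continuous s)
    (h : ∀ j, IsHomeomorph (sj j)) : IsHomeomorph s :=
  ⟨hs, top_isOpenMap s πZ πX sj comm fib hZo hXc fun j => (h j).isOpenMap,
    top_injective s πZ πX sj fib hZs fun j => (h j).injective,
    top_surjective s πZ πX sj comm hZs fun j => (h j).surjective⟩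

end Top

variable {S : Scheme.{u}}

/-- Space-level: the base change of a standard fpqc covering of an affine scheme to an algebraic
space over it is jointly submersive. -/
theorem isOpen_of_forall_preimage_sp {Z : Over S} (hZ : IsAffine Z.left) {m : ℕ}
    (W : Fin m → Over S) (c : ∀ j, W j ⟶ Z) (haff : ∀ j, IsAffine (W j).left)
    (hflat : ∀ j, Flat (c j).left) (hsurj : ∀ z : ↥Z.left, ∃ j, z ∈ Set.range (c j).left)
    {T : Sp S} (hT : IsAlgSpace T) (t : T ⟶ (yon S).obj Z)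
    (Tj : Fin m → Sp S) (π : ∀ j, Tj j ⟶ T) (r : ∀ j, Tj j ⟶ (yon S).obj (W j))
    (sq : ∀ j, IsPullback (π j) (r j) t ((yon S).map (c j))) (A : Set (Points T))
    (hA : ∀ j, IsOpen (Points.map (π j) ⁻¹' A)) : IsOpen A := by
  obtain ⟨U, a, hae, has⟩ := hT.atlas
  rw [← (isQuotientMap_ofPt hae has).isOpen_preimage]
  obtain ⟨u, hu⟩ := (yon S).map_surjective (a ≫ t)
  have : IsAffine Z.left := hZ
  have : ∀ j, IsAffine ((fun j => (W j).left) j) := haff
  refine isOpen_of_forall_preimage u.left (fun j => (W j).left) (fun j => (c j).left) hflat hsurj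
    (fun j => (pullback u (c j)).left) (fun j => (pullback.fst u (c j)).left)
    (fun j => (pullback.snd u (c j)).left)
    (fun j => (IsPullback.of_hasPullback u (c j)).map (Over.forget S)) _ fun j => ?_
  have hw : ((yon S).map (pullback.fst u (c j)) ≫ a) ≫ t =
      (yon S).map (pullback.snd u (c j)) ≫ (yon S).map (c j) := by
    rw [Category.assoc, ← hu, ← Functor.map_comp, ← Functor.map_comp, pullback.condition]
  let e := (sq j).lift _ _ hw
  have he : e ≫ π j = (yon S).map (pullback.fst u (c j)) ≫ a := (sq j).lift_fst _ _ hw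
  have : (pullback.fst u (c j)).left ⁻¹' (Points.ofPt a ⁻¹' A) =
      Points.ofPt e ⁻¹' (Points.map (π j) ⁻¹' A) := by
    ext x
    simp only [Set.mem_preimage]
    rw [Points.map_ofPt, he, ofPt_yon_map_comp]
  rw [this]
  exact (hA j).preimage (Points.continuous_ofPt e)

theorem exists_mem_range_sp {Z : Over S} {m : ℕ}
    (W : Fin m → Over S) (c : ∀ j, W j ⟶ Z)
    (hsurj : ∀ z : ↥Z.left, ∃ j, z ∈ Set.range (c j).left)
    {T : Sp S} (t : T ⟶ (yon S).obj Z)
    (Tj : Fin m → Sp S) (π : ∀ j, Tj j ⟶ T) (r : ∀ j, Tj j ⟶ (yon S).obj (W j))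
    (sq : ∀ j, IsPullback (π j) (r j) t ((yon S).map (c j))) (x : Points T) :
    ∃ j, x ∈ Set.range (Points.map (π j)) := by
  obtain ⟨j, w, hw⟩ := hsurj ((Points.schemeHomeo Z).symm (Points.map t x))
  have : Points.map t x = Points.map ((yon S).map (c j)) (Points.schemeHomeo (W j) w) := by
    rw [Points.map_yon_map_apply, hw, Homeomorph.apply_symm_apply]
  obtain ⟨z, hz, -⟩ := points_pullback_surjective (sq j) x _ this
  exact ⟨j, z, hz⟩

end Groth.Agent.H3.AlgSpCov
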