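import Mathlib
import Groth.Agent.Lib.Helper3.AlgSpCov.SpaceTop
import Groth.Agent.Lib.Helper5.AlgSp.UnivClosed
import Groth.Agent.Lib.Helper5.AlgSp.FibreProduct

set_option autoImplicit false
set_option linter.overlappingInstances false
set_option linter.unusedSectionVars false

universe u

open CategoryTheory CategoryTheory.Limits AlgebraicGeometry MorphismProperty Opposite Topology

namespace Groth.Agent.H3.AlgSpCov

open _root_.AlgSp Groth.Agent.H5.AlgSp

variable {S : Scheme.{u}}

/-- The shape of the topological descent statement for a property `Q` of morphisms of sheaves. -/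
def TopDescends (Q : MorphismProperty (Sp S)) : Prop :=
  ∀ ⦃X₀ Z₀ : Sp S⦄ (s : X₀ ⟶ Z₀) ⦃m : ℕ⦄ (Xj Zj : Fin m → Sp S) (πZ : ∀ j, Zj j ⟶ Z₀)
    (πX : ∀ j, Xj j ⟶ X₀) (sj : ∀ j, Xj j ⟶ Zj j),
    (∀ j, IsPullback (πX j) (sj j) s (πZ j)) →
    (∀ A : Set (Points Z₀), (∀ j, IsOpen (Points.map (πZ j) ⁻¹' A)) → IsOpen A) →
    (∀ z : Points Z₀, ∃ j, z ∈ Set.range (Points.map (πZ j))) →
    (∀ j, Q (sj j)) → Q s

/-- `Q` can be tested after base change to affine schemes. -/
def AffineTest (Q : MorphismProperty (Sp S)) : Prop :=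
  ∀ ⦃F G : Sp S⦄ (f : F ⟶ G), (∀ (T : Over S), IsAffine T.left →
      ∀ (g : (yon S).obj T ⟶ G), Q (pullback.snd f g)) → Q f

section TopDescends

variable {X₀ Z₀ : Sp S} (s : X₀ ⟶ Z₀) {m : ℕ} (Xj Zj : Fin m → Sp S) (πZ : ∀ j, Zj j ⟶ Z₀)
    (πX : ∀ j, Xj j ⟶ X₀) (sj : ∀ j, Xj j ⟶ Zj j)
    (sq : ∀ j, IsPullback (πX j) (sj j) s (πZ j))

include sq

lemma comm_pts (j : Fin m) (w : Points (Xj j)) :
    Points.map (πZ j) (Points.map (sj j) w) = Points.map s (Points.map (πX j) w) := by
  rw [← Points.map_comp, ← Points.map_comp, (sq j).w]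

lemma fib_pts (j : Fin m) (x : Points X₀) (z : Points (Zj j))
    (h : Points.map s x = Points.map (πZ j) z) :
    ∃ w, Points.map (πX j) w = x ∧ Points.map (sj j) w = z :=
  points_pullback_surjective (sq j) x z h

end TopDescends

theorem topDescends_isOpenMor : TopDescends (IsOpenMor (S := S)) :=
  fun _ _ s _ Xj Zj πZ πX sj sq hZo _ h =>
    top_isOpenMap (Points.map s) (fun j => Points.map (πZ j)) (fun j => Points.map (πX j))
      (fun j => Points.map (sj j)) (comm_pts s Xj Zj πZ πX sj sq) (fib_pts s Xj Zj πZ πX sj sq)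
      hZo (fun j => Points.continuous_map _) h

theorem topDescends_isClosedMor : TopDescends (IsClosedMor (S := S)) :=
  fun _ _ s _ Xj Zj πZ πX sj sq hZo _ h =>
    top_isClosedMap (Points.map s) (fun j => Points.map (πZ j)) (fun j => Points.map (πX j))
      (fun j => Points.map (sj j)) (comm_pts s Xj Zj πZ πX sj sq) (fib_pts s Xj Zj πZ πX sj sq)
      hZo (fun j => Points.continuous_map _) h

theorem topDescends_injective :
    TopDescends (fun _ _ f => Function.Injective (Points.map f) : MorphismProperty (Sp S)) :=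
  fun _ _ s _ Xj Zj πZ πX sj sq _ hZs h =>
    top_injective (Points.map s) (fun j => Points.map (πZ j)) (fun j => Points.map (πX j))
      (fun j => Points.map (sj j)) (fib_pts s Xj Zj πZ πX sj sq) hZs h

theorem topDescends_isSubmersiveMor : TopDescends (IsSubmersiveMor (S := S)) :=
  fun _ _ s _ Xj Zj πZ πX sj sq hZo hZs h =>
    top_isQuotientMap (Points.map s) (fun j => Points.map (πZ j)) (fun j => Points.map (πX j))
      (fun j => Points.map (sj j)) (comm_pts s Xj Zj πZ πX sj sq) hZo hZs
      (fun j => Points.continuous_map _) (Points.continuous_map _) h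

theorem topDescends_isHomeomorph :
    TopDescends (fun _ _ f => IsHomeomorph (Points.map f) : MorphismProperty (Sp S)) :=
  fun _ _ s _ Xj Zj πZ πX sj sq hZo hZs h =>
    top_isHomeomorph (Points.map s) (fun j => Points.map (πZ j)) (fun j => Points.map (πX j))
      (fun j => Points.map (sj j)) (comm_pts s Xj Zj πZ πX sj sq) (fib_pts s Xj Zj πZ πX sj sq)
      hZo hZs (fun j => Points.continuous_map _) (Points.continuous_map _) h

/-! ### Affine tests -/

theorem affineTest_isOpenMor : AffineTest (IsOpenMor (S := S)) :=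
  fun _ _ _ h => isOpenMap_points_map_of_forall_affine h

theorem affineTest_isClosedMor : AffineTest (IsClosedMor (S := S)) :=
  fun _ _ _ h => isClosedMap_points_map_of_forall_affine h

/-- every point of `G` is the image of the closed point under some `h_{Spec K} ⟶ G`. -/
lemma exists_field_rep {G : Sp S} (y : Points G) :
    ∃ (T : Over S) (_ : IsAffine T.left) (η : (yon S).obj T ⟶ G) (t₀ : Points ((yon S).obj T)),
      Points.map η t₀ = y := by
  obtain ⟨K, _, str, η, rfl⟩ := exists_fpOfHom y
  refine ⟨Over.mk str, ?_, η, Points.ofScheme _ (IsLocalRing.closedPoint K), ?_⟩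
  · dsimp; infer_instance
  · rw [← Points.ofPt_eq_map_ofScheme, ofPt_closedPoint]

theorem affineTest_injective :
    AffineTest (fun _ _ f => Function.Injective (Points.map f) : MorphismProperty (Sp S)) := by
  intro F G f h x₁ x₂ hx
  obtain ⟨T, hT, η, t₀, ht₀⟩ := exists_field_rep (Points.map f x₁)
  have sq := IsPullback.of_hasPullback f η
  obtain ⟨z₁, hz₁, hz₁'⟩ := points_pullback_surjective sq x₁ t₀ ht₀.symm
  obtain ⟨z₂, hz₂, hz₂'⟩ := points_pullback_surjective sq x₂ t₀ (by rw [← hx, ht₀])
  have : z₁ = z₂ := h T hT η (hz₁'.trans hz₂'.symm)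
  rw [← hz₁, ← hz₂, this]

lemma surjective_of_forall_affine {F G : Sp S} (f : F ⟶ G)
    (h : ∀ (T : Over S), IsAffine T.left → ∀ (g : (yon S).obj T ⟶ G),
      Function.Surjective (Points.map (pullback.snd f g))) :
    Function.Surjective (Points.map f) := by
  intro y
  obtain ⟨T, hT, η, t₀, rfl⟩ := exists_field_rep y
  obtain ⟨z, rfl⟩ := h T hT η t₀
  refine ⟨Points.map (pullback.fst f η) z, ?_⟩
  rw [← Points.map_comp, ← Points.map_comp, pullback.condition]

theorem affineTest_isSubmersiveMor : AffineTest (IsSubmersiveMor (S := S)) := by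
  intro F G f h
  change IsQuotientMap (Points.map f)
  rw [isQuotientMap_iff]
  refine ⟨.of_isOpen_preimage_iff_isOpen fun A => ⟨fun hA => ?_, fun hA =>
    hA.preimage (Points.continuous_map f)⟩,
    surjective_of_forall_affine f fun T hT g => (h T hT g).surjective⟩
  rw [isOpen_iff_forall_affine]
  intro T hT g
  have h1 : IsOpen (Points.map g ⁻¹' A) := by
    rw [← (h T hT g).isOpen_preimage, ← Set.preimage_comp]
    have : Points.map g ∘ Points.map (pullback.snd f g) =
        Points.map f ∘ Points.map (pullback.fst f g) := by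
      funext z
      simp only [Function.comp_apply]
      rw [← Points.map_comp, ← Points.map_comp, pullback.condition]
    rw [this, Set.preimage_comp]
    exact hA.preimage (Points.continuous_map _)
  have h2 : Points.ofPt g ⁻¹' A = Points.ofScheme T ⁻¹' (Points.map g ⁻¹' A) := by
    ext t
    simp only [Set.mem_preimage]
    rw [Points.ofPt_eq_map_ofScheme]
  rw [h2]
  exact h1.preimage (Points.continuous_ofPt _)

theorem affineTest_isHomeomorph :
    AffineTest (fun _ _ f => IsHomeomorph (Points.map f) : MorphismProperty (Sp S)) := by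
  intro F G f h
  exact ⟨Points.continuous_map f,
    isOpenMap_points_map_of_forall_affine fun T hT g => (h T hT g).isOpenMap,
    affineTest_injective f fun T hT g => (h T hT g).injective,
    surjective_of_forall_affine f fun T hT g => (h T hT g).surjective⟩

/-! ### The family lemma -/

theorem univSp_of_family {Q : MorphismProperty (Sp S)} (hQ : TopDescends Q)
    {Z : Over S} (hZ : IsAffine Z.left) {m : ℕ}
    (W : Fin m → Over S) (c : ∀ j, W j ⟶ Z) (haff : ∀ j, IsAffine (W j).left)
    (hflat : ∀ j, Flat (c j).left) (hsurj : ∀ z : ↥Z.left, ∃ j, z ∈ Set.range (c j).left)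
    {X : Sp S} (f : X ⟶ (yon S).obj Z)
    (h : ∀ j, UnivSp Q (pullback.snd f ((yon S).map (c j)))) : UnivSp Q f := by
  intro Z₀ X₀ hZ₀ g₀ fst snd sq₀
  refine hQ snd (fun j => pullback snd (pullback.fst g₀ ((yon S).map (c j))))
    (fun j => pullback g₀ ((yon S).map (c j))) (fun j => pullback.fst _ _)
    (fun j => pullback.fst _ _) (fun j => pullback.snd _ _)
    (fun j => IsPullback.of_hasPullback _ _)
    (isOpen_of_forall_preimage_sp hZ W c haff hflat hsurj hZ₀ g₀ _ _
      (fun j => pullback.snd g₀ ((yon S).map (c j))) fun j => IsPullback.of_hasPullback _ _)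
    (exists_mem_range_sp W c hsurj g₀ _ _
      (fun j => pullback.snd g₀ ((yon S).map (c j))) fun j => IsPullback.of_hasPullback _ _)
    fun j => ?_
  have hZj : IsAlgSpace (pullback g₀ ((yon S).map (c j))) :=
    isAlgSpace_pullback (IsAlgSpace.yon_obj Z).diag hZ₀ (IsAlgSpace.yon_obj _)
      (IsPullback.of_hasPullback _ _)
  have big : IsPullback (pullback.fst snd (pullback.fst g₀ ((yon S).map (c j))) ≫ fst)
      (pullback.snd snd (pullback.fst g₀ ((yon S).map (c j)))) f
      (pullback.fst g₀ ((yon S).map (c j)) ≫ g₀) :=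
    (IsPullback.of_hasPullback _ _).paste_horiz sq₀
  have hw : (pullback.fst snd (pullback.fst g₀ ((yon S).map (c j))) ≫ fst) ≫ f =
      (pullback.snd snd (pullback.fst g₀ ((yon S).map (c j))) ≫
        pullback.snd g₀ ((yon S).map (c j))) ≫ (yon S).map (c j) := by
    rw [Category.assoc _ _ ((yon S).map (c j)), ← pullback.condition]
    exact big.w
  have left : IsPullback (pullback.lift _ _ hw)
      (pullback.snd snd (pullback.fst g₀ ((yon S).map (c j))))
      (pullback.snd f ((yon S).map (c j))) (pullback.snd g₀ ((yon S).map (c j))) := by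
    refine IsPullback.of_right (h₁₂ := pullback.fst f ((yon S).map (c j)))
      (h₂₂ := (yon S).map (c j)) ?_ (pullback.lift_snd _ _ hw) (IsPullback.of_hasPullback _ _)
    rw [pullback.lift_fst, ← pullback.condition]
    exact big
  exact h j hZj _ _ _ left

theorem fpqcLocal_univSp {Q : MorphismProperty (Sp S)} (hQ : TopDescends Q)
    (hQ' : AffineTest Q) : FpqcLocal (UnivSp Q) := by
  intro X Y f hX hY hyp
  refine univSp_of_forall_affine (fun f h => hQ' f h) fun Z hZ g P fst snd sq => ?_
  obtain ⟨m, W, c, haff, hflat, hsurj, hj⟩ := hyp Z hZ g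
  have key : UnivSp Q snd := by
    refine univSp_of_family hQ hZ W c haff hflat hsurj snd fun j => ?_
    have big : IsPullback (pullback.fst snd ((yon S).map (c j)) ≫ fst)
        (pullback.snd snd ((yon S).map (c j))) f ((yon S).map (c j) ≫ g) :=
      (IsPullback.of_hasPullback _ _).paste_horiz sq
    have sq' : IsPullback big.isoPullback.hom (pullback.snd snd ((yon S).map (c j)))
        (pullback.snd f ((yon S).map (c j) ≫ g)) (𝟙 _) :=
      IsPullback.of_horiz_isIso ⟨by rw [big.isoPullback_hom_snd, Category.comp_id]⟩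
    exact univSp_of_isPullback sq' (hj j)
  exact key (IsAlgSpace.yon_obj Z) (𝟙 _) (𝟙 _) snd (IsPullback.id_horiz snd)

theorem bcStable_univSp (Q : MorphismProperty (Sp S)) : BCStable (UnivSp Q) :=
  fun _ _ _ _ _ _ _ _ _ _ _ sq hf => univSp_of_isPullback sq hf

theorem isLocalOnBase_fpqc_univSp {Q : MorphismProperty (Sp S)} (hQ : TopDescends Q)
    (hQ' : AffineTest Q) : IsLocalOnBase (IsFpqcCover (S := S)) (UnivSp Q) :=
  isLocalOnBase_fpqc_of (bcStable_univSp Q) (fpqcLocal_univSp hQ hQ')

theorem isLocalOnBase_fpqc_isUnivClosedMor :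
    IsLocalOnBase (IsFpqcCover (S := S)) IsUnivClosedMor :=
  isLocalOnBase_fpqc_univSp topDescends_isClosedMor affineTest_isClosedMor

theorem isLocalOnBase_fpqc_isUnivOpenMor :
    IsLocalOnBase (IsFpqcCover (S := S)) IsUnivOpenMor :=
  isLocalOnBase_fpqc_univSp topDescends_isOpenMor affineTest_isOpenMor

theorem isLocalOnBase_fpqc_isUnivSubmersiveMor :
    IsLocalOnBase (IsFpqcCover (S := S)) IsUnivSubmersiveMor :=
  isLocalOnBase_fpqc_univSp topDescends_isSubmersiveMor affineTest_isSubmersiveMor

theorem isLocalOnBase_fpqc_isUnivInjectiveMor :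
    IsLocalOnBase (IsFpqcCover (S := S)) IsUnivInjectiveMor :=
  isLocalOnBase_fpqc_univSp topDescends_injective affineTest_injective

theorem isLocalOnBase_fpqc_isUnivHomeoMor :
    IsLocalOnBase (IsFpqcCover (S := S)) IsUnivHomeoMor :=
  isLocalOnBase_fpqc_univSp topDescends_isHomeomorph affineTest_isHomeomorph

end Groth.Agent.H3.AlgSpCov
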