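import Mathlib
import Groth.Agent.Lib.Helper3.AlgSpCov.UnivBase
import Groth.Agent.Lib.Helper5.AlgSp.QCompact
import Groth.Agent.Lib.Helper5.AlgSp.ProdSp

set_option autoImplicit false
set_option linter.overlappingInstances false
set_option linter.unusedSectionVars false

universe u

open CategoryTheory CategoryTheory.Limits AlgebraicGeometry MorphismProperty Opposite Topology

namespace Groth.Agent.H3.AlgSpCov

open _root_.AlgSp Groth.Agent.H5.AlgSp

variable {S : Scheme.{u}}

theorem bcStable_isQuasiCompactMor : BCStable (IsQuasiCompactMor (S := S)) :=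
  fun _ _ _ _ _ _ _ _ _ _ _ sq hf => isQuasiCompactMor_of_isPullback sq hf

theorem fpqcLocal_isQuasiCompactMor : FpqcLocal (IsQuasiCompactMor (S := S)) := by
  intro X Y f hX hY hyp
  refine isQuasiCompactMor_of_forall_affine hX hY fun Z hZ g P fst snd sq => ?_
  obtain ⟨m, W, c, haff, hflat, hsurj, hj⟩ := hyp Z hZ g
  have hP : IsAlgSpace P := isAlgSpace_pullback hY.diag hX (IsAlgSpace.yon_obj Z) sq
  rw [isQuasiCompactSp_iff_compactSpace hP]
  constructor
  have hun : (Set.univ : Set (Points P)) =
      ⋃ j, Set.range (Points.map (pullback.fst snd ((yon S).map (c j)))) := by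
    ext x
    simp only [Set.mem_univ, true_iff, Set.mem_iUnion]
    exact exists_mem_range_sp W c hsurj snd _ _ (fun j => pullback.snd snd ((yon S).map (c j)))
      (fun j => IsPullback.of_hasPullback _ _) x
  rw [hun]
  refine isCompact_iUnion fun j => ?_
  have big : IsPullback (pullback.fst snd ((yon S).map (c j)) ≫ fst)
      (pullback.snd snd ((yon S).map (c j))) f ((yon S).map (c j) ≫ g) :=
    (IsPullback.of_hasPullback _ _).paste_horiz sq
  have sq' : IsPullback big.isoPullback.hom (pullback.snd snd ((yon S).map (c j)))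
      (pullback.snd f ((yon S).map (c j) ≫ g)) (𝟙 _) :=
    IsPullback.of_horiz_isIso ⟨by rw [big.isoPullback_hom_snd, Category.comp_id]⟩
  have hWc : IsQuasiCompactSp ((yon S).obj (W j)) := by
    rw [isQuasiCompactSp_yon_iff]
    have := haff j
    infer_instance
  have hq : IsQuasiCompactSp (pullback snd ((yon S).map (c j))) :=
    hj j (IsAlgSpace.yon_obj (W j)) hWc (𝟙 _) _ _ sq'
  have hPj : IsAlgSpace (pullback snd ((yon S).map (c j))) :=
    isAlgSpace_pullback (IsAlgSpace.yon_obj Z).diag hP (IsAlgSpace.yon_obj _)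
      (IsPullback.of_hasPullback _ _)
  have := (isQuasiCompactSp_iff_compactSpace hPj).1 hq
  exact isCompact_range (Points.continuous_map _)

theorem isLocalOnBase_fpqc_isQuasiCompactMor :
    IsLocalOnBase (IsFpqcCover (S := S)) IsQuasiCompactMor :=
  isLocalOnBase_fpqc_of bcStable_isQuasiCompactMor fpqcLocal_isQuasiCompactMor

end Groth.Agent.H3.AlgSpCov
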