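import Mathlib
import Groth.Agent.Lib.Helper3.AlgSpCov.LocPBaseInst
import Groth.Agent.Lib.Helper3.AlgSpCov.FpqcSchemes
import Groth.Agent.Lib.Helper5.AlgSp.AffineBase
import Groth.Agent.Lib.Helper5.AlgSp.SepMor
import Groth.Agent.Lib.Helper5.AlgSp.RelDiag
import Groth.Agent.Lib.Helper5.AlgSp.OpenSub
import Groth.Agent.Lib.Helper3.AlgSpCov.QCBase

set_option autoImplicit false
set_option linter.overlappingInstances false
set_option linter.unusedSectionVars false

universe u

open CategoryTheory CategoryTheory.Limits AlgebraicGeometry MorphismProperty Opposite Topology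

namespace Groth.Agent.H3.AlgSpCov

open _root_.AlgSp Groth.Agent.H5.AlgSp Groth.Agent.H5.EtSrc

variable {S : Scheme.{u}}

/-- Base change of an fpqc covering. -/
theorem isFpqcCover_of_isPullback {X X' : Sp S} (hX : IsAlgSpace X) (hX' : IsAlgSpace X')
    (a : X' ⟶ X) {ι : Type u} (Xi : ι → Sp S) (hXi : ∀ i, IsAlgSpace (Xi i))
    (g : ∀ i, Xi i ⟶ X) (Xi' : ι → Sp S) (q : ∀ i, Xi' i ⟶ X') (p : ∀ i, Xi' i ⟶ Xi i)
    (sq : ∀ i, IsPullback (q i) (p i) a (g i)) (h : IsFpqcCover Xi g) : IsFpqcCover Xi' q := by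
  refine ⟨fun i => locP_of_isPullback etale_le_flat (sq i).flip (hXi i) hX hX' (h.1 i),
    fun Z hZ k => ?_⟩
  obtain ⟨m, W, c, haff, hflat, hsurj, hl⟩ := h.2 Z hZ (k ≫ a)
  refine ⟨m, W, c, haff, hflat, hsurj, fun j => ?_⟩
  obtain ⟨i, l, hl⟩ := hl j
  exact ⟨i, (sq i).lift ((yon S).map (c j) ≫ k) l (by rw [Category.assoc, hl]),
    (sq i).lift_fst _ _ _⟩

/-- A representable morphism to an algebraic space has `P` as soon as it does after base change
to standard fpqc coverings of affine schemes. -/
theorem repWith_of_fpqcLocal {P : MorphismProperty Scheme.{u}} [P.IsStableUnderBaseChange]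
    [IsZariskiLocalAtTarget P] [P.DescendsAlong (@Surjective ⊓ @Flat ⊓ @QuasiCompact)]
    {A B : Sp S} (g : A ⟶ B) (hg : Representable g)
    (hyp : ∀ (Z : Over S), IsAffine Z.left → ∀ (hZ : (yon S).obj Z ⟶ B),
      ∃ (m : ℕ) (W : Fin m → Over S) (c : ∀ j, W j ⟶ Z),
        (∀ j, IsAffine (W j).left) ∧ (∀ j, Flat (c j).left) ∧
        (∀ z : ↥Z.left, ∃ j, z ∈ Set.range (c j).left) ∧
        ∀ j, RepWith P (pullback.snd g ((yon S).map (c j) ≫ hZ))) : RepWith P g := by
  have : P.RespectsIso := MorphismProperty.IsStableUnderBaseChange.respectsIso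
  refine repWith_of_forall_affine hg P fun T V t fst snd hT sq => ?_
  obtain ⟨m, W, c, haff, hflat, hsurj, hj⟩ := hyp T hT t
  have : IsAffine T.left := hT
  have : ∀ j, IsAffine ((fun j => (W j).left) j) := haff
  refine of_finite_flat_family (P := P) snd.left (fun j => (W j).left) (fun j => (c j).left)
    hflat hsurj (fun j => (pullback snd (c j)).left) (fun j => (pullback.fst snd (c j)).left)
    (fun j => (pullback.snd snd (c j)).left)
    (fun j => (IsPullback.of_hasPullback snd (c j)).map (Over.forget S)) fun j => ?_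
  have big := isPullback_baseChange_yon sq (c j)
  have sq' : IsPullback big.isoPullback.hom ((yon S).map (pullback.snd snd (c j)))
      (pullback.snd g ((yon S).map (c j) ≫ t)) (𝟙 _) :=
    IsPullback.of_horiz_isIso ⟨by rw [big.isoPullback_hom_snd, Category.comp_id]⟩
  exact (hj j).property _ _ _ sq'

/-- `RepWith P` of a representable morphism can be checked on an fpqc covering of the target. -/
theorem repWith_of_isFpqcCover {P : MorphismProperty Scheme.{u}} [P.IsStableUnderBaseChange]
    [IsZariskiLocalAtTarget P] [P.DescendsAlong (@Surjective ⊓ @Flat ⊓ @QuasiCompact)]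
    {A B : Sp S} (g : A ⟶ B) (hg : Representable g) {ι : Type u} (Bi : ι → Sp S)
    (β : ∀ i, Bi i ⟶ B) (hcov : IsFpqcCover Bi β) (Ai : ι → Sp S) (gi : ∀ i, Ai i ⟶ Bi i)
    (α : ∀ i, Ai i ⟶ A) (sq : ∀ i, IsPullback (α i) (gi i) g (β i))
    (h : ∀ i, RepWith P (gi i)) : RepWith P g := by
  refine repWith_of_fpqcLocal g hg fun Z hZaff hZ => ?_
  obtain ⟨m, W, c, haff, hflat, hsurj, hl⟩ := hcov.2 Z hZaff hZ
  refine ⟨m, W, c, haff, hflat, hsurj, fun j => ?_⟩
  obtain ⟨i, l, hl⟩ := hl j
  have key : ∀ (x : (yon S).obj (W j) ⟶ B), x = (yon S).map (c j) ≫ hZ →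
      RepWith P (pullback.snd g x) → RepWith P (pullback.snd g ((yon S).map (c j) ≫ hZ)) := by
    rintro x rfl h
    exact h
  refine key _ hl ?_
  have hw : pullback.fst g (l ≫ β i) ≫ g = (pullback.snd g (l ≫ β i) ≫ l) ≫ β i := by
    rw [pullback.condition, Category.assoc]
  have big : IsPullback ((sq i).lift _ _ hw ≫ α i) (pullback.snd g (l ≫ β i)) g (l ≫ β i) := by
    rw [(sq i).lift_fst]
    exact IsPullback.of_hasPullback _ _
  have left : IsPullback ((sq i).lift _ _ hw) (pullback.snd g (l ≫ β i)) (gi i) l :=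
    IsPullback.of_right big ((sq i).lift_snd _ _ hw) (sq i)
  exact MorphismProperty.of_isPullback (P := RepWith P) left (h i)

/-- The induced map on self fibre products of a base change is a base change. -/
lemma isPullback_pullbackMap {C : Type*} [Category C] [HasPullbacks C] {X X' Y Y' : C}
    {f : X ⟶ Y} {g : Y' ⟶ Y} {fst : X' ⟶ X} {snd : X' ⟶ Y'} (sq : IsPullback fst snd f g) :
    IsPullback (pullback.map snd snd f f fst fst g sq.w.symm sq.w.symm)
      (pullback.fst snd snd ≫ snd) (pullback.fst f f ≫ f) g := by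
  refine ⟨⟨?_⟩, ⟨PullbackCone.IsLimit.mk _
    (fun s => pullback.lift
      (sq.lift (s.fst ≫ pullback.fst f f) s.snd (by rw [Category.assoc, s.condition]))
      (sq.lift (s.fst ≫ pullback.snd f f) s.snd
        (by rw [Category.assoc, ← pullback.condition, s.condition]))
      (by rw [sq.lift_snd, sq.lift_snd])) ?_ ?_ ?_⟩⟩
  · rw [← Category.assoc, pullback.lift_fst, Category.assoc, Category.assoc, sq.w]
  · intro s
    apply pullback.hom_ext
    · rw [Category.assoc, pullback.lift_fst, ← Category.assoc, pullback.lift_fst, sq.lift_fst]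
    · rw [Category.assoc, pullback.lift_snd, ← Category.assoc, pullback.lift_snd, sq.lift_fst]
  · intro s
    rw [← Category.assoc, pullback.lift_fst, sq.lift_snd]
  · intro s m h1 h2
    apply pullback.hom_ext
    · rw [pullback.lift_fst]
      apply sq.hom_ext
      · rw [sq.lift_fst, ← h1, Category.assoc, Category.assoc, pullback.lift_fst]
      · rw [sq.lift_snd, ← h2, Category.assoc]
    · rw [pullback.lift_snd]
      apply sq.hom_ext
      · rw [sq.lift_fst, ← h1, Category.assoc, Category.assoc, pullback.lift_snd]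
      · rw [sq.lift_snd, ← h2, Category.assoc]
        exact congrArg (m ≫ ·) pullback.condition.symm

/-- Diagonal-type properties are fpqc local on the base. -/
theorem isLocalOnBase_fpqc_diag {P : MorphismProperty Scheme.{u}} [P.IsStableUnderBaseChange]
    [IsZariskiLocalAtTarget P] [P.DescendsAlong (@Surjective ⊓ @Flat ⊓ @QuasiCompact)] :
    IsLocalOnBase (IsFpqcCover (S := S)) (fun _ _ f => RepWith P (pullback.diagonal f)) := by
  intro ι Y Yi g hY hYi hcov X f hX Xi p q hXi sq
  constructor
  · intro hf i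
    exact repWith_diag_of_isPullback (sq i) hf
  · intro hp
    have hB : IsAlgSpace (pullback f f) :=
      isAlgSpace_pullback hY.diag hX hX (IsPullback.of_hasPullback f f)
    have hBi : ∀ i, IsAlgSpace (pullback (p i) (p i)) := fun i =>
      isAlgSpace_pullback (hYi i).diag (hXi i) (hXi i) (IsPullback.of_hasPullback _ _)
    have hcov' : IsFpqcCover (fun i => pullback (p i) (p i))
        (fun i => pullback.map (p i) (p i) f f (q i) (q i) (g i) (sq i).w.symm (sq i).w.symm) :=
      isFpqcCover_of_isPullback hY hB (pullback.fst f f ≫ f) Yi hYi g _ _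
        (fun i => pullback.fst (p i) (p i) ≫ p i) (fun i => isPullback_pullbackMap (sq i)) hcov
    exact repWith_of_isFpqcCover (pullback.diagonal f) (repWith_relDiag_of_isAlgSpace hX f).1 _ _
      hcov' Xi (fun i => pullback.diagonal (p i)) q (fun i => isPullback_diag_baseChange (sq i)) hp

theorem isLocalOnBase_fpqc_isQuasiSeparatedMor :
    IsLocalOnBase (IsFpqcCover (S := S)) IsQuasiSeparatedMor :=
  isLocalOnBase_fpqc_diag (P := @QuasiCompact)

theorem isLocalOnBase_fpqc_isSeparatedMor :
    IsLocalOnBase (IsFpqcCover (S := S)) IsSeparatedMor :=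
  isLocalOnBase_fpqc_diag (P := @IsClosedImmersion)





/-- An isomorphism of sheaves is representable by isomorphisms. -/
theorem repWith_isomorphisms_of_isIso {F G : Sp S} (φ : F ⟶ G) [IsIso φ] :
    RepWith (MorphismProperty.isomorphisms Scheme.{u}) φ := by
  have hrep : Representable φ := Functor.relativelyRepresentable.of_isIso _ φ
  refine ⟨hrep, fun T V g fst snd sq => ?_⟩
  have h1 : IsIso ((yon S).map snd) :=
    (MorphismProperty.isomorphisms (Sp S)).of_isPullback sq (show IsIso φ from inferInstance)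
  have h2 : IsIso snd := isIso_of_fully_faithful (yon S) snd
  change IsIso snd.left
  exact (Over.forget S).map_isIso snd

theorem mono_iff_repWith_diagonal {F G : Sp S} (f : F ⟶ G) :
    Mono f ↔ RepWith (MorphismProperty.isomorphisms Scheme.{u}) (pullback.diagonal f) := by
  constructor
  · intro h
    exact repWith_isomorphisms_of_isIso _
  · intro h
    exact (pullback.isIso_diagonal_iff f).1 (isIso_of_repWith_isomorphisms h)

theorem isLocalOnBase_fpqc_monomorphisms :
    IsLocalOnBase (IsFpqcCover (S := S)) (MorphismProperty.monomorphisms (Sp S)) :=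
  isLocalOnBase_congr (fun _ _ f _ _ => (mono_iff_repWith_diagonal f).symm)
    (isLocalOnBase_fpqc_diag (P := MorphismProperty.isomorphisms Scheme.{u}))

theorem isLocalOnBase_fpqc_isFinitePresentationMor :
    IsLocalOnBase (IsFpqcCover (S := S)) IsFinitePresentationMor :=
  isLocalOnBase_and isLocalOnBase_fpqc_lfp
    (isLocalOnBase_and isLocalOnBase_fpqc_isQuasiCompactMor isLocalOnBase_fpqc_isQuasiSeparatedMor)


theorem isLocalOnBase_fpqc_isFiniteTypeMor :
    IsLocalOnBase (IsFpqcCover (S := S)) IsFiniteTypeMor :=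
  isLocalOnBase_and isLocalOnBase_fpqc_lft isLocalOnBase_fpqc_isQuasiCompactMor

theorem isLocalOnBase_fpqc_isProperMor :
    IsLocalOnBase (IsFpqcCover (S := S)) IsProperMor :=
  isLocalOnBase_and isLocalOnBase_fpqc_isSeparatedMor
    (isLocalOnBase_and isLocalOnBase_fpqc_isFiniteTypeMor isLocalOnBase_fpqc_isUnivClosedMor)

end Groth.Agent.H3.AlgSpCov
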