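import Mathlib
import Groth.Agent.Lib.Helper3.AlgSpCov.RepBase

set_option autoImplicit false
set_option linter.overlappingInstances false
set_option linter.unusedSectionVars false

universe u

open CategoryTheory CategoryTheory.Limits AlgebraicGeometry MorphismProperty Opposite Topology

namespace Groth.Agent.H3.AlgSpCov

open _root_.AlgSp Groth.Agent.H5.AlgSp Groth.Agent.H5.EtSrc

variable {S : Scheme.{u}}

/-- Reindexing a standard fpqc covering along an equivalence with `Fin n`. -/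
lemma exists_fin_of_fintype {κ : Type*} [Fintype κ] {Z : Over S} {Y : Sp S} (hZ : (yon S).obj Z ⟶ Y)
    (W : κ → Over S) (c : ∀ j, W j ⟶ Z) (haff : ∀ j, IsAffine (W j).left)
    (hflat : ∀ j, Flat (c j).left) (hsurj : ∀ z : ↥Z.left, ∃ j, z ∈ Set.range (c j).left)
    (Q : ∀ (W' : Over S), (W' ⟶ Z) → Prop) (hQ : ∀ j, Q (W j) (c j)) :
    ∃ (m : ℕ) (W' : Fin m → Over S) (c' : ∀ j, W' j ⟶ Z),
        (∀ j, IsAffine (W' j).left) ∧ (∀ j, Flat (c' j).left) ∧
        (∀ z : ↥Z.left, ∃ j, z ∈ Set.range (c' j).left) ∧ ∀ j, Q (W' j) (c' j) := by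
  let e := Fintype.equivFin κ
  refine ⟨Fintype.card κ, fun j => W (e.symm j), fun j => c (e.symm j), fun j => haff _,
    fun j => hflat _, fun z => ?_, fun j => hQ _⟩
  obtain ⟨j, hj⟩ := hsurj z
  obtain ⟨j', rfl⟩ := e.symm.surjective j
  exact ⟨j', hj⟩

theorem isFpqcCover_sigma {X : Sp S} (hX : IsAlgSpace X) {ι : Type u} (Xi : ι → Sp S)
    (hXi : ∀ i, IsAlgSpace (Xi i)) (g : ∀ i, Xi i ⟶ X) (κ : ι → Type u)
    (Xij : ∀ i, κ i → Sp S) (hXij : ∀ i j, IsAlgSpace (Xij i j)) (gij : ∀ i j, Xij i j ⟶ Xi i)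
    (h : IsFpqcCover Xi g) (hij : ∀ i, IsFpqcCover (Xij i) (gij i)) :
    IsFpqcCover (fun r : Σ i, κ i => Xij r.1 r.2) (fun r => gij r.1 r.2 ≫ g r.1) := by
  refine ⟨fun r => locP_comp etale_le_flat (hXij r.1 r.2) (hXi r.1) hX ((hij r.1).1 r.2) (h.1 r.1),
    fun Z hZ k => ?_⟩
  obtain ⟨m, W, c, haff, hflat, hsurj, hl⟩ := h.2 Z hZ k
  choose i l hl using hl
  have h2 := fun j => (hij (i j)).2 (W j) (haff j) (l j)
  choose m' W' c' haff' hflat' hsurj' hl' using h2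
  choose k' l' hl' using hl'
  refine exists_fin_of_fintype (κ := Σ j : Fin m, Fin (m' j)) k (fun r => W' r.1 r.2)
    (fun r => c' r.1 r.2 ≫ c r.1) (fun r => haff' r.1 r.2) (fun r => ?_) (fun z => ?_)
    (fun W'' c'' => ∃ (r : Σ i, κ i) (l'' : (yon S).obj W'' ⟶ Xij r.1 r.2),
      l'' ≫ gij r.1 r.2 ≫ g r.1 = (yon S).map c'' ≫ k) (fun r => ?_)
  · have := hflat' r.1 r.2
    have := hflat r.1
    rw [Over.comp_left]
    infer_instance
  · obtain ⟨j, w, hw⟩ := hsurj z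
    obtain ⟨j', w', hw'⟩ := hsurj' j w
    refine ⟨⟨j, j'⟩, w', ?_⟩
    rw [Over.comp_left, Scheme.Hom.comp_apply, hw', hw]
  · refine ⟨⟨i r.1, k' r.1 r.2⟩, l' r.1 r.2, ?_⟩
    rw [← Category.assoc, hl' r.1 r.2, Category.assoc, hl r.1, Functor.map_comp, Category.assoc]


theorem isFpqcCover_of_isFppfCover {X : Sp S} (hX : IsAlgSpace X) {ι : Type u} (Xi : ι → Sp S)
    (hXi : ∀ i, IsAlgSpace (Xi i)) (g : ∀ i, Xi i ⟶ X) (h : IsFppfCover Xi g) :
    IsFpqcCover Xi g := by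
  refine ⟨fun i => (h.1 i).1, fun Z hZ k => ?_⟩
  have key : ∀ z : ↥Z.left, ∃ (W : Over S) (c : W ⟶ Z), IsAffine W.left ∧ Flat c.left ∧
      IsOpen (Set.range c.left) ∧ z ∈ Set.range c.left ∧
      ∃ (i : ι) (l : (yon S).obj W ⟶ Xi i), l ≫ g i = (yon S).map c ≫ k := by
    intro z
    obtain ⟨i, x, hx⟩ := h.2 (Points.ofPt k z)
    have sq := IsPullback.of_hasPullback (g i) k
    obtain ⟨y, hy1, hy2⟩ := points_pullback_surjective sq x (Points.ofScheme Z z)
      (by rw [hx, ← Points.ofPt_eq_map_ofScheme])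
    have hZi : IsAlgSpace (pullback (g i) k) :=
      isAlgSpace_pullback hX.diag (hXi i) (IsAlgSpace.yon_obj Z) sq
    obtain ⟨U, a, hae, has⟩ := hZi.atlas
    obtain ⟨u, hu⟩ := ofPt_surjective_of_repWith has y
    obtain ⟨φ, hφ⟩ := (yon S).map_surjective (a ≫ pullback.snd (g i) k)
    have hfl : LocP @Flat (pullback.snd (g i) k) :=
      locP_of_isPullback etale_le_flat sq (hXi i) hX (IsAlgSpace.yon_obj Z) (h.1 i).1
    have hlfp : LocP @LocallyOfFinitePresentation (pullback.snd (g i) k) :=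
      locP_of_isPullback etale_le_lfp sq (hXi i) hX (IsAlgSpace.yon_obj Z) (h.1 i).2
    have hφfl : Flat φ.left := hfl a (𝟙 _) φ hae (repWith_id _ Z) (by rw [hφ, Category.comp_id])
    have hφlfp : LocallyOfFinitePresentation φ.left :=
      hlfp a (𝟙 _) φ hae (repWith_id _ Z) (by rw [hφ, Category.comp_id])
    obtain ⟨_, ⟨V, hV, rfl⟩, huV, -⟩ := U.left.isBasis_affineOpens.exists_subset_of_mem_open
      (Set.mem_univ u) isOpen_univ
    obtain ⟨V, hV'⟩ : ∃ V' : U.left.Opens, V' = V := ⟨V, rfl⟩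
    subst hV'
    have hzu : φ.left u = z := by
      have h1 : Points.ofPt ((yon S).map φ) u = Points.ofScheme Z z := by
        rw [hφ, ← Points.map_ofPt, hu, hy2]
      have h2 := congrArg (Points.toScheme Z) h1
      rwa [Points.toScheme_ofPt, Points.toScheme_ofScheme] at h2
    refine ⟨overOpen U V, overOpenι U V ≫ φ, hV, ?_, ?_, ?_, i,
      (yon S).map (overOpenι U V) ≫ a ≫ pullback.fst (g i) k, ?_⟩
    · rw [Over.comp_left]
      change Flat (V.ι ≫ φ.left)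
      infer_instance
    · rw [Over.comp_left]
      change IsOpen (Set.range (V.ι ≫ φ.left))
      exact (V.ι ≫ φ.left).isOpenMap.isOpen_range
    · refine ⟨⟨u, huV⟩, ?_⟩
      rw [Over.comp_left]
      change (V.ι ≫ φ.left) (⟨u, huV⟩ : ↥V) = z
      rw [Scheme.Hom.comp_apply]
      exact hzu
    · rw [Category.assoc, Category.assoc, pullback.condition, ← Category.assoc a, ← hφ,
        Functor.map_comp, Category.assoc]
  choose W c haff hflat hopen hmem i l hl using key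
  obtain ⟨t, ht⟩ := isCompact_univ.elim_finite_subcover (fun z => Set.range (c z).left) hopen
    (fun z _ => Set.mem_iUnion.2 ⟨z, hmem z⟩)
  refine exists_fin_of_fintype (κ := ↥t) k (fun r => W r.1) (fun r => c r.1) (fun r => haff r.1)
    (fun r => hflat r.1) (fun z => ?_)
    (fun W'' c'' => ∃ (i : ι) (l'' : (yon S).obj W'' ⟶ Xi i), l'' ≫ g i = (yon S).map c'' ≫ k)
    (fun r => ⟨i r.1, l r.1, hl r.1⟩)
  have := ht (Set.mem_univ z)
  simp only [Set.mem_iUnion] at this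
  obtain ⟨z', hz't, hz'⟩ := this
  exact ⟨⟨z', hz't⟩, hz'⟩

end Groth.Agent.H3.AlgSpCov
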