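import Mathlib
import Groth.Agent.Lib.Helper3.AlgSpCov.Covers
import Groth.Agent.Lib.Helper5.AlgSp.Cover
import Groth.Agent.Lib.Helper5.AlgSp.MonoDesc
import Groth.Agent.Lib.Helper5.AlgSp.OpenSubspace
import Groth.Agent.Lib.Helper5.AlgSp.ImmersionTop

set_option autoImplicit false
set_option linter.overlappingInstances false
set_option linter.unusedSectionVars false

universe u

open CategoryTheory CategoryTheory.Limits AlgebraicGeometry MorphismProperty Opposite Topology

namespace Groth.Agent.H3.AlgSpCov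

open _root_.AlgSp Groth.Agent.H5.AlgSp Groth.Agent.H5.EtSrc

variable {S : Scheme.{u}}

/-- Local lifting through an fppf covering. -/
theorem exists_local_lift_of_isFppfCover {X : Sp S} (hX : IsAlgSpace X) {ι : Type u}
    (Xi : ι → Sp S) (hXi : ∀ i, IsAlgSpace (Xi i)) (g : ∀ i, Xi i ⟶ X) (h : IsFppfCover Xi g)
    (Z : Over S) (k : (yon S).obj Z ⟶ X) (z : ↥Z.left) :
    ∃ (W : Over S) (c : W ⟶ Z), IsAffine W.left ∧ Flat c.left ∧
      LocallyOfFinitePresentation c.left ∧ z ∈ Set.range c.left ∧
      ∃ (i : ι) (l : (yon S).obj W ⟶ Xi i), l ≫ g i = (yon S).map c ≫ k := by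
  obtain ⟨i, x, hx⟩ := h.2 (Points.ofPt k z)
  have sq := IsPullback.of_hasPullback (g i) k
  obtain ⟨y, hy1, hy2⟩ := points_pullback_surjective sq x (Points.ofScheme Z z)
    (by rw [hx, ← Points.ofPt_eq_map_ofScheme])
  have hZi : IsAlgSpace (pullback (g i) k) :=
    isAlgSpace_pullback hX.diag (hXi i) (IsAlgSpace.yon_obj Z) sq
  obtain ⟨U, a, hae, has⟩ := hZi.atlas
  obtain ⟨u, hu⟩ := ofPt_surjective_of_repWith has y
  obtain ⟨φ, hφ⟩ := (yon S).map_surjective (a ≫ pullback.snd (g i) k)
  have hfl : LocP @Flat (pullback.snd (g i) k) :=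
    locP_of_isPullback etale_le_flat sq (hXi i) hX (IsAlgSpace.yon_obj Z) (h.1 i).1
  have hlfp : LocP @LocallyOfFinitePresentation (pullback.snd (g i) k) :=
    locP_of_isPullback etale_le_lfp sq (hXi i) hX (IsAlgSpace.yon_obj Z) (h.1 i).2
  have hφfl : Flat φ.left := hfl a (𝟙 _) φ hae (repWith_id _ Z) (by rw [hφ, Category.comp_id])
  have hφlfp : LocallyOfFinitePresentation φ.left :=
    hlfp a (𝟙 _) φ hae (repWith_id _ Z) (by rw [hφ, Category.comp_id])
  obtain ⟨_, ⟨V, hV, rfl⟩, huV, -⟩ := U.left.isBasis_affineOpens.exists_subset_of_mem_open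
    (Set.mem_univ u) isOpen_univ
  obtain ⟨V, hV'⟩ : ∃ V' : U.left.Opens, V' = V := ⟨V, rfl⟩
  subst hV'
  have hzu : φ.left u = z := by
    have h1 : Points.ofPt ((yon S).map φ) u = Points.ofScheme Z z := by
      rw [hφ, ← Points.map_ofPt, hu, hy2]
    have h2 := congrArg (Points.toScheme Z) h1
    rwa [Points.toScheme_ofPt, Points.toScheme_ofScheme] at h2
  refine ⟨overOpen U V, overOpenι U V ≫ φ, hV, ?_, ?_, ?_, i,
    (yon S).map (overOpenι U V) ≫ a ≫ pullback.fst (g i) k, ?_⟩
  · rw [Over.comp_left]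
    change Flat (V.ι ≫ φ.left)
    infer_instance
  · rw [Over.comp_left]
    change LocallyOfFinitePresentation (V.ι ≫ φ.left)
    infer_instance
  · refine ⟨⟨u, huV⟩, ?_⟩
    rw [Over.comp_left]
    change (V.ι ≫ φ.left) (⟨u, huV⟩ : ↥V) = z
    rw [Scheme.Hom.comp_apply]
    exact hzu
  · rw [Category.assoc, Category.assoc, pullback.condition, ← Category.assoc a, ← hφ,
      Functor.map_comp, Category.assoc]

theorem exists_fppf_local_lift {X : Sp S} (hX : IsAlgSpace X) {ι : Type u}
    (Xi : ι → Sp S) (hXi : ∀ i, IsAlgSpace (Xi i)) (g : ∀ i, Xi i ⟶ X) (h : IsFppfCover Xi g)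
    (T : Over S) (t : (yon S).obj T ⟶ X) :
    ∃ (κ : Type u) (Tk : κ → Over S) (c : ∀ k, Tk k ⟶ T),
      Sieve.ofArrows Tk c ∈ J S T ∧
      ∀ k, ∃ (i : ι) (l : (yon S).obj (Tk k) ⟶ Xi i), l ≫ g i = (yon S).map (c k) ≫ t := by
  have key := exists_local_lift_of_isFppfCover hX Xi hXi g h T t
  choose W c haff hflat hlfp hmem i l hl using key
  refine ⟨↥T.left, W, c, ?_, fun z => ⟨i z, l z, hl z⟩⟩
  rw [mem_J_iff]
  refine ⟨Presieve.ofArrows W c, ?_, Sieve.le_generate _⟩
  rw [Presieve.map_ofArrows]
  change Presieve.ofArrows _ _ ∈ Scheme.precoverage _ _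
  rw [Scheme.ofArrows_mem_precoverage_iff]
  exact ⟨fun z => ⟨z, hmem z⟩, fun z => ⟨hflat z, hlfp z⟩⟩





/-- A surjective, flat, locally finitely presented morphism of algebraic spaces is an epimorphism
of fppf sheaves. -/
theorem isLocallySurjective_of_fppf {X Y : Sp S} (hX : IsAlgSpace X) (hY : IsAlgSpace Y)
    (f : X ⟶ Y) (hfl : LocP @Flat f) (hlfp : LocP @LocallyOfFinitePresentation f)
    (hs : IsSurjectiveMor f) : Sheaf.IsLocallySurjective f := by
  apply isLocallySurjective_of_liftSieve
  intro T σ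
  have hcov : IsFppfCover (fun _ : PUnit.{u + 1} => X) (fun _ => f) :=
    ⟨fun _ => ⟨hfl, hlfp⟩, fun y => by
      obtain ⟨x, hx⟩ := hs y
      exact ⟨PUnit.unit, x, hx⟩⟩
  obtain ⟨κ, Tk, c, hc, hl⟩ := exists_fppf_local_lift hY _ (fun _ => hX) _ hcov T σ
  refine (J S).superset_covering ?_ hc
  rintro T' t ⟨T'', a, b, ⟨k⟩, rfl⟩
  obtain ⟨_, l, hl⟩ := hl k
  exact (liftSieve f σ).downward_closed ⟨l, hl⟩ a

/-- An fpqc covering is jointly surjective on points. -/
theorem exists_mem_range_of_isFpqcCover {X : Sp S} {ι : Type u} (Xi : ι → Sp S)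
    (g : ∀ i, Xi i ⟶ X) (h : IsFpqcCover Xi g) (x : Points X) :
    ∃ i, x ∈ Set.range (Points.map (g i)) := by
  obtain ⟨K, _, str, η, rfl⟩ := exists_fpOfHom x
  have hK : IsAffine (Over.mk str).left := by dsimp; infer_instance
  obtain ⟨m, W, c, haff, hflat, hsurj, hl⟩ := h.2 (Over.mk str) hK η
  obtain ⟨j, w, hw⟩ := hsurj (IsLocalRing.closedPoint K)
  obtain ⟨i, l, hl⟩ := hl j
  refine ⟨i, Points.ofPt l w, ?_⟩
  rw [Points.map_ofPt, hl, ofPt_yon_map_comp, hw, ofPt_closedPoint]

theorem isLocalOnBase_fpqc_isomorphisms :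
    IsLocalOnBase (IsFpqcCover (S := S)) (MorphismProperty.isomorphisms (Sp S)) := by
  intro ι Y Yi g hY hYi hcov X f hX Xi p q hXi sq
  constructor
  · intro hf i
    exact (MorphismProperty.isomorphisms (Sp S)).of_isPullback (sq i) hf
  · intro hp
    have hmono : Mono f :=
      (isLocalOnBase_fpqc_monomorphisms Yi g hY hYi hcov f hX Xi p q hXi sq).2 fun i => by
        have : IsIso (p i) := hp i
        exact (inferInstance : Mono (p i))
    have hrep : ∀ i, RepWith @Etale (p i) := fun i => by
      have : IsIso (p i) := hp i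
      exact repWith_mono (fun _ _ φ hφ => by
        have : IsIso φ := hφ
        exact (inferInstance : Etale φ)) (repWith_isomorphisms_of_isIso (p i))
    have hfl : LocP @Flat f :=
      (isLocalOnBase_fpqc_flat Yi g hY hYi hcov f hX Xi p q hXi sq).2 fun i =>
        locP_of_repWith etale_le_flat (repWith_mono etale_le_flat (hrep i))
    have hlfp : LocP @LocallyOfFinitePresentation f :=
      (isLocalOnBase_fpqc_lfp Yi g hY hYi hcov f hX Xi p q hXi sq).2 fun i =>
        locP_of_repWith etale_le_lfp (repWith_mono etale_le_lfp (hrep i))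
    have hs : IsSurjectiveMor f := by
      intro y
      obtain ⟨i, yi, rfl⟩ := exists_mem_range_of_isFpqcCover Yi g hcov y
      have : IsIso (p i) := hp i
      refine ⟨Points.map (q i) (Points.map (inv (p i)) yi), ?_⟩
      rw [← Points.map_comp, ← Points.map_comp, (sq i).w, IsIso.inv_hom_id_assoc]
    have := isLocallySurjective_of_fppf hX hY f hfl hlfp hs
    exact isIso_of_mono_of_isLocallySurjective f





theorem isLocalOnBase_fpqc_isOpenImmersion :
    IsLocalOnBase (IsFpqcCover (S := S)) (RepWith @IsOpenImmersion) := by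
  intro ι Y Yi g hY hYi hcov X f hX Xi p q hXi sq
  constructor
  · intro hf i
    exact MorphismProperty.of_isPullback (P := RepWith @IsOpenImmersion) (sq i) hf
  · intro hp
    -- `f` is universally open
    have huo : IsUnivOpenMor f :=
      (isLocalOnBase_fpqc_isUnivOpenMor Yi g hY hYi hcov f hX Xi p q hXi sq).2 fun i =>
        univSp_of_repWith (P := @IsOpenImmersion) (Q := IsOpenMor)
          (fun φ hφ => isOpenMap_points_map_of_repWith
            (fun ψ hψ => by
              have : IsOpenImmersion ψ := hψ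
              exact ψ.isOpenEmbedding.isOpenMap) hφ) (hp i)
    have hfo : IsOpenMap (Points.map f) := huo hY (𝟙 _) (𝟙 _) f (IsPullback.id_horiz f)
    obtain ⟨W, hWdef⟩ : ∃ W, W = Set.range (Points.map f) := ⟨_, rfl⟩
    have hW : IsOpen W := hWdef ▸ hfo.isOpen_range
    have hj := repWith_openSubι hW
    have hY' := isAlgSpace_openSub hY hW
    obtain ⟨f', hf'⟩ := (factors_through_open_iff _ hj f).2
      (by rw [range_points_map_openSubι, hWdef])
    -- the covering of the open subspace
    have hcov' : IsFpqcCover (fun i => pullback (openSubι Y W) (g i))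
        (fun i => pullback.fst _ _) :=
      isFpqcCover_of_isPullback hY hY' _ Yi hYi g _ _ (fun i => pullback.snd _ _)
        (fun i => IsPullback.of_hasPullback _ _) hcov
    have hYi' : ∀ i, IsAlgSpace (pullback (openSubι Y W) (g i)) :=
      fun i => isAlgSpace_pullback hY.diag hY' (hYi i) (IsPullback.of_hasPullback _ _)
    have hXi' : ∀ i, IsAlgSpace (pullback f' (pullback.fst (openSubι Y W) (g i))) :=
      fun i => isAlgSpace_pullback hY'.diag hX (hYi' i) (IsPullback.of_hasPullback _ _)
    -- `f'` is surjective on points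
    have hs : IsSurjectiveMor f' := by
      intro y'
      have : Points.map (openSubι Y W) y' ∈ Set.range (Points.map f) := by
        rw [← hWdef]
        have h0 : Points.map (openSubι Y W) y' ∈ Set.range (Points.map (openSubι Y W)) :=
          ⟨y', rfl⟩
        rwa [range_points_map_openSubι W] at h0
      obtain ⟨x, hx⟩ := this
      refine ⟨x, points_map_injective_of_mono (openSubι Y W) ?_⟩
      rw [← Points.map_comp, hf', hx]
    have hiso : IsIso f' := by
      refine (isLocalOnBase_fpqc_isomorphisms _ _ hY' hYi' hcov' f' hX _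
        (fun i => pullback.snd _ _) (fun i => pullback.fst _ _) hXi'
        (fun i => IsPullback.of_hasPullback _ _)).2 fun i => ?_
      have big : IsPullback
          (pullback.fst f' (pullback.fst (openSubι Y W) (g i)))
          (pullback.snd f' (pullback.fst (openSubι Y W) (g i)) ≫
            pullback.snd (openSubι Y W) (g i)) (f' ≫ openSubι Y W) (g i) :=
        (IsPullback.of_hasPullback f' _).paste_vert (IsPullback.of_hasPullback _ (g i))
      rw [hf'] at big
      have h1 : RepWith @IsOpenImmersion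
          (pullback.snd f' (pullback.fst (openSubι Y W) (g i)) ≫
            pullback.snd (openSubι Y W) (g i)) := by
        rw [← big.isoIsPullback_hom_snd _ _ (sq i)]
        exact MorphismProperty.RespectsIso.precomp _ _ _ (hp i)
      have h2 := repWith_of_comp_mono _ h1
      exact isIso_of_isOpenImmersion_of_points_surjective h2
        (isSurjectiveMor_of_isPullback (IsPullback.of_hasPullback f' _) hs)
    rw [← hf']
    exact MorphismProperty.RespectsIso.precomp _ _ _ hj


end Groth.Agent.H3.AlgSpCov
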