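import Mathlib
import Groth.Agent.Lib.Helper3.AlgSpCov.IsoBase

set_option autoImplicit false
set_option linter.overlappingInstances false
set_option linter.unusedSectionVars false

universe u

open CategoryTheory CategoryTheory.Limits AlgebraicGeometry MorphismProperty Opposite Topology

namespace Groth.Agent.H3.AlgSpCov

open _root_.AlgSp Groth.Agent.H5.AlgSp Groth.Agent.H5.EtSrc

variable {S : Scheme.{u}}

/-- fpqc coverings are jointly submersive. -/
theorem isOpen_of_isFpqcCover {X : Sp S} {ι : Type u} (Xi : ι → Sp S)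
    (g : ∀ i, Xi i ⟶ X) (h : IsFpqcCover Xi g) (A : Set (Points X))
    (hA : ∀ i, IsOpen (Points.map (g i) ⁻¹' A)) : IsOpen A := by
  rw [isOpen_iff_forall_affine]
  intro Z hZ k
  obtain ⟨m, W, c, haff, hflat, hsurj, hl⟩ := h.2 Z hZ k
  have : IsAffine Z.left := hZ
  have : ∀ j, IsAffine ((fun j => (W j).left) j) := haff
  refine isOpen_of_forall_preimage (𝟙 Z.left) (fun j => (W j).left) (fun j => (c j).left) hflat
    hsurj (fun j => (W j).left) (fun j => (c j).left) (fun j => 𝟙 _)
    (fun j => IsPullback.of_vert_isIso ⟨by simp⟩) _ fun j => ?_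
  obtain ⟨i, l, hl⟩ := hl j
  have : (c j).left ⁻¹' (Points.ofPt k ⁻¹' A) = Points.ofPt l ⁻¹' (Points.map (g i) ⁻¹' A) := by
    ext w
    simp only [Set.mem_preimage]
    rw [Points.map_ofPt, hl, ofPt_yon_map_comp]
  rw [this]
  exact (hA i).preimage (Points.continuous_ofPt l)

theorem existsUnique_open_descend {T : Sp S} {ι : Type u} (Ti : ι → Sp S)
    (g : ∀ i, Ti i ⟶ T) (hg : IsFpqcCover Ti g)
    (Wi : ∀ i, Set (Points (Ti i))) (hW : ∀ i, IsOpen (Wi i))
    (hc : ∀ i j, Points.map (pullback.fst (g i) (g j)) ⁻¹' Wi i =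
      Points.map (pullback.snd (g i) (g j)) ⁻¹' Wi j) :
    ∃! W : TopologicalSpace.Opens (Points T),
      ∀ i, Points.map (g i) ⁻¹' (W : Set (Points T)) = Wi i := by
  have key : ∀ i, Points.map (g i) ⁻¹' (⋃ j, Points.map (g j) '' Wi j) = Wi i := by
    intro i
    ext x
    simp only [Set.mem_preimage, Set.mem_iUnion, Set.mem_image]
    constructor
    · rintro ⟨j, y, hy, hxy⟩
      obtain ⟨z, hz1, hz2⟩ := points_pullback_surjective (IsPullback.of_hasPullback (g i) (g j))
        x y hxy.symm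
      have : z ∈ Points.map (pullback.snd (g i) (g j)) ⁻¹' Wi j := by
        rw [Set.mem_preimage, hz2]; exact hy
      rw [← hc i j, Set.mem_preimage, hz1] at this
      exact this
    · intro hx
      exact ⟨i, x, hx, rfl⟩
  have hopen : IsOpen (⋃ j, Points.map (g j) '' Wi j) :=
    isOpen_of_isFpqcCover Ti g hg _ fun i => by rw [key i]; exact hW i
  refine ⟨⟨_, hopen⟩, key, fun W' hW' => ?_⟩
  ext y
  obtain ⟨i, x, rfl⟩ := exists_mem_range_of_isFpqcCover Ti g hg y
  change Points.map (g i) x ∈ (W' : Set (Points T)) ↔ Points.map (g i) x ∈ ⋃ j, Points.map (g j) '' Wi j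
  rw [← Set.mem_preimage, hW' i, ← Set.mem_preimage (f := Points.map (g i)), key i]

end Groth.Agent.H3.AlgSpCov
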