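import Mathlib
import Groth.Agent.Lib.Helper3.AlgSpCov.GlueOpen
import Groth.Agent.Lib.Helper3.AlgSpCov.FlatSource

set_option autoImplicit false
set_option linter.overlappingInstances false
set_option linter.unusedSectionVars false

universe u

open CategoryTheory CategoryTheory.Limits AlgebraicGeometry MorphismProperty Opposite Topology

namespace Groth.Agent.H3.AlgSpCov

open _root_.AlgSp Groth.Agent.H5.AlgSp Groth.Agent.H5.EtSrc

variable {S : Scheme.{u}}

/-- Generic "local on the source" descent for `LocP P` along a jointly surjective family of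
`LocP 𝒟`-morphisms, given the scheme-level statement. -/
theorem locP_of_source_family {P 𝒟 : MorphismProperty Scheme.{u}}
    [𝒟.IsStableUnderBaseChange] [𝒟.IsStableUnderComposition] [IsEtaleLocalSource 𝒟]
    (h𝒟 : (@Etale : MorphismProperty Scheme.{u}) ≤ 𝒟)
    (hsch : ∀ {U V : Scheme.{u}} (h : U ⟶ V) (K : Type u) (Uk : K → Scheme.{u})
      (d : ∀ k, Uk k ⟶ U), (∀ k, 𝒟 (d k)) → (∀ u : U, ∃ k, u ∈ Set.range (d k)) →
      (∀ k, P (d k ≫ h)) → P h)
    {X Y : Sp S} (hX : IsAlgSpace X) {ι : Type u} (Xi : ι → Sp S)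
    (hXi : ∀ i, IsAlgSpace (Xi i)) (g : ∀ i, Xi i ⟶ X) (hg : ∀ i, LocP 𝒟 (g i))
    (hsurj : ∀ x : Points X, ∃ i, x ∈ Set.range (Points.map (g i)))
    (f : X ⟶ Y) (hf : ∀ i, LocP P (g i ≫ f)) : LocP P f := by
  intro U V a b h ha hb comm
  have sq : ∀ i, IsPullback (pullback.fst (g i) a) (pullback.snd (g i) a) (g i) a :=
    fun i => IsPullback.of_hasPullback _ _
  have hPi : ∀ i, IsAlgSpace (pullback (g i) a) := fun i =>
    isAlgSpace_pullback hX.diag (hXi i) (IsAlgSpace.yon_obj U) (sq i)
  choose Ui c hce hcs using fun i => (hPi i).atlas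
  choose d hd using fun i => (yon S).map_surjective (c i ≫ pullback.snd (g i) a)
  refine hsch h.left ι (fun i => (Ui i).left) (fun i => (d i).left) (fun i => ?_) (fun u => ?_)
    (fun i => ?_)
  · have h1 : LocP 𝒟 (pullback.snd (g i) a) :=
      locP_of_isPullback h𝒟 (sq i) (hXi i) hX (IsAlgSpace.yon_obj U) (hg i)
    exact h1 (c i) (𝟙 _) (d i) (hce i) (repWith_id _ U) (by rw [hd, Category.comp_id])
  · obtain ⟨i, xi, hxi⟩ := hsurj (Points.ofPt a u)
    obtain ⟨y, hy1, hy2⟩ := points_pullback_surjective (sq i) xi (Points.ofScheme U u)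
      (by rw [hxi, ← Points.ofPt_eq_map_ofScheme])
    obtain ⟨ui, hui⟩ := ofPt_surjective_of_repWith (hcs i) y
    refine ⟨i, ui, ?_⟩
    have h1 : Points.ofPt ((yon S).map (d i)) ui = Points.ofScheme U u := by
      rw [hd, ← Points.map_ofPt, hui, hy2]
    have h2 := congrArg (Points.toScheme U) h1
    rwa [Points.toScheme_ofPt, Points.toScheme_ofScheme] at h2
  · have hfst : RepWith @Etale (pullback.fst (g i) a) :=
      MorphismProperty.of_isPullback (P := RepWith @Etale) (sq i).flip ha
    have := hf i (c i ≫ pullback.fst (g i) a) b (d i ≫ h)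
      ((RepWith @Etale).comp_mem _ _ (hce i) hfst) hb (by
        rw [Category.assoc, ← Category.assoc (pullback.fst (g i) a), pullback.condition,
          Category.assoc, comm, ← Category.assoc, ← Category.assoc, ← hd, Functor.map_comp,
          Category.assoc])
    rwa [Over.comp_left] at this

theorem isLocalOnSource_fpqc_flat :
    IsLocalOnSource (IsFpqcCover (S := S)) (LocP @Flat) := by
  intro ι X Xi g hX hXi hcov Y f hY
  constructor
  · intro hf i
    exact locP_comp etale_le_flat (hXi i) hX hY (hcov.1 i) hf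
  · intro hf
    exact locP_of_source_family (P := @Flat) (𝒟 := @Flat) etale_le_flat
      (fun h K Uk d hd hs hc => flat_of_flat_family h Uk d hd hs hc) hX Xi hXi g hcov.1
      (exists_mem_range_of_isFpqcCover Xi g hcov) f hf

/-- Scheme level: a property étale local and Zariski local on the source can be checked on a
jointly surjective étale family. -/
theorem prop_of_etale_family {P : MorphismProperty Scheme.{u}} [IsEtaleLocalSource P]
    [IsZariskiLocalAtSource P] {U V : Scheme.{u}} (h : U ⟶ V) (K : Type u)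
    (Uk : K → Scheme.{u}) (d : ∀ k, Uk k ⟶ U) (hd : ∀ k, Etale (d k))
    (hs : ∀ u : U, ∃ k, u ∈ Set.range (d k)) (hc : ∀ k, P (d k ≫ h)) : P h := by
  refine IsEtaleLocalSource.of_comp (Sigma.desc d) h ?_ ⟨fun u => ?_⟩ ?_
  · exact IsZariskiLocalAtSource.sigmaDesc (P := @Etale) hd
  · obtain ⟨k, w, hw⟩ := hs u
    refine ⟨Sigma.ι Uk k w, ?_⟩
    rw [← Scheme.Hom.comp_apply, Sigma.ι_desc, hw]
  · have : Sigma.desc d ≫ h = Sigma.desc fun k => d k ≫ h := by
      ext k
      simp
    rw [this]
    exact IsZariskiLocalAtSource.sigmaDesc (P := P) hc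

theorem isLocalOnSource_et_locP {P : MorphismProperty Scheme.{u}} [P.IsStableUnderBaseChange]
    [P.IsStableUnderComposition] [IsEtaleLocalSource P] [IsZariskiLocalAtSource P]
    (hP : (@Etale : MorphismProperty Scheme.{u}) ≤ P) :
    IsLocalOnSource (IsEtCover (S := S)) (LocP P) := by
  intro ι X Xi g hX hXi hcov Y f hY
  have hge : ∀ i, LocP @Etale (g i) := fun i => (isEtaleMor_iff_locP hX (g i)).1 (hcov.1 i)
  constructor
  · intro hf i
    refine locP_comp hP (hXi i) hX hY ?_ hf
    intro U V a b h ha hb comm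
    exact hP _ _ _ (hge i a b h ha hb comm)
  · intro hf
    exact locP_of_source_family (P := P) (𝒟 := @Etale) le_rfl
      (fun h K Uk d hd hs hc => prop_of_etale_family h K Uk d hd hs hc) hX Xi hXi g hge
      hcov.2 f hf

/-- Transfer of `IsLocalOnSource` along a pointwise equivalence on morphisms of algebraic
spaces. -/
theorem isLocalOnSource_congr {τ : CovNotion S} {Q Q' : MorphismProperty (Sp S)}
    (hQ : ∀ ⦃X Y : Sp S⦄ (f : X ⟶ Y), IsAlgSpace X → IsAlgSpace Y → (Q f ↔ Q' f))
    (h : IsLocalOnSource τ Q) : IsLocalOnSource τ Q' := by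
  intro ι X Xi g hX hXi hcov Y f hY
  have e1 := h Xi g hX hXi hcov f hY
  rw [← hQ f hX hY, e1]
  exact forall_congr' fun i => hQ (g i ≫ f) (hXi i) hY

theorem isLocalOnSource_et_isEtaleMor :
    IsLocalOnSource (IsEtCover (S := S)) IsEtaleMor :=
  isLocalOnSource_congr (fun _ _ f _ hY => (isEtaleMor_iff_locP hY f).symm)
    (isLocalOnSource_et_locP (P := @Etale) le_rfl)

theorem isLocalOnSource_et_lqf :
    IsLocalOnSource (IsEtCover (S := S)) (LocP (@LocallyQuasiFinite ⊓ @LocallyOfFiniteType)) :=
  isLocalOnSource_et_locP (fun _ _ f hf => by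
    have : Etale f := hf
    exact ⟨locallyQuasiFinite_of_etale f, inferInstance⟩)

theorem isLocalOnSource_et_unram :
    IsLocalOnSource (IsEtCover (S := S)) (LocP (@LocallyOfFiniteType ⊓ @FormallyUnramified)) :=
  isLocalOnSource_et_locP (fun _ _ f hf => by
    have : Etale f := hf
    exact ⟨inferInstance, inferInstance⟩)





/-- Openness on points can be checked on a jointly surjective family on the source. -/
lemma isOpenMap_of_source_family {X Y : Sp S} {ι : Type*} (Xi : ι → Sp S) (g : ∀ i, Xi i ⟶ X)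
    (hsurj : ∀ x : Points X, ∃ i, x ∈ Set.range (Points.map (g i))) (f : X ⟶ Y)
    (h : ∀ i, IsOpenMap (Points.map (g i ≫ f))) : IsOpenMap (Points.map f) := by
  intro A hA
  have : Points.map f '' A = ⋃ i, Points.map (g i ≫ f) '' (Points.map (g i) ⁻¹' A) := by
    ext y
    simp only [Set.mem_image, Set.mem_iUnion, Set.mem_preimage]
    constructor
    · rintro ⟨x, hx, rfl⟩
      obtain ⟨i, xi, rfl⟩ := hsurj x
      exact ⟨i, xi, hx, Points.map_comp _ _ _⟩
    · rintro ⟨i, xi, hxi, rfl⟩
      exact ⟨_, hxi, (Points.map_comp _ _ _).symm⟩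
  rw [this]
  exact isOpen_iUnion fun i => h i _ (hA.preimage (Points.continuous_map _))

theorem isLocalOnSource_fppf_isOpenMor :
    IsLocalOnSource (IsFppfCover (S := S)) IsOpenMor := by
  intro ι X Xi g hX hXi hcov Y f hY
  constructor
  · intro hf i
    have h1 : IsOpenMap (Points.map (g i)) :=
      isUnivOpenMor_of_locP_flat_lfp (hXi i) hX (hcov.1 i).1 (hcov.1 i).2 hX (𝟙 _) (𝟙 _) (g i)
        (IsPullback.id_horiz (g i))
    change IsOpenMap (Points.map (g i ≫ f))
    have : Points.map (g i ≫ f) = Points.map f ∘ Points.map (g i) :=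
      funext (Points.map_comp _ _)
    rw [this]
    exact IsOpenMap.comp hf h1
  · intro hf
    exact isOpenMap_of_source_family Xi g hcov.2 f hf

theorem isLocalOnSource_fppf_isUnivOpenMor :
    IsLocalOnSource (IsFppfCover (S := S)) IsUnivOpenMor := by
  intro ι X Xi g hX hXi hcov Y f hY
  constructor
  · intro hf i
    refine univSp_comp (Q := IsOpenMor) (fun a b ha hb => ?_) hX hY
      (isUnivOpenMor_of_locP_flat_lfp (hXi i) hX (hcov.1 i).1 (hcov.1 i).2) hf
    change IsOpenMap (Points.map (a ≫ b))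
    have : Points.map (a ≫ b) = Points.map b ∘ Points.map a := funext (Points.map_comp a b)
    rw [this]
    exact IsOpenMap.comp hb ha
  · intro hf Z Z' hZ k fst snd sq
    refine isOpenMap_of_source_family (fun i => pullback (g i) fst) (fun i => pullback.snd _ _)
      (fun x => ?_) snd fun i => ?_
    · obtain ⟨i, xi, hxi⟩ := hcov.2 (Points.map fst x)
      obtain ⟨z, -, hz⟩ := points_pullback_surjective (IsPullback.of_hasPullback (g i) fst) xi x hxi
      exact ⟨i, z, hz⟩
    · exact hf i hZ k (pullback.fst (g i) fst) _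
        ((IsPullback.of_hasPullback (g i) fst).paste_vert sq)


end Groth.Agent.H3.AlgSpCov
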