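import Mathlib
import Groth.Agent.H4.SmRed2
import Groth.Agent.Lib.Helper3.AlgSpCov.Source
import Groth.Prelude.Def_AlgSpSub

set_option autoImplicit false
set_option linter.overlappingInstances false
set_option linter.unusedSectionVars false

universe u

open CategoryTheory CategoryTheory.Limits AlgebraicGeometry MorphismProperty Opposite Topology

namespace Groth.Agent.H3.AlgSpCov

open _root_.AlgSp Groth.Agent.H5.AlgSp Groth.Agent.H5.EtSrc

variable {S : Scheme.{u}}

/-- Reducedness descends along flat surjective morphisms of schemes. -/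
lemma isReduced_of_flat_surjective {A B : Scheme.{u}} (f : A ⟶ B) [Flat f]
    (hs : Function.Surjective f) [AlgebraicGeometry.IsReduced A] :
    AlgebraicGeometry.IsReduced B := by
  have : ∀ x : B, _root_.IsReduced (B.presheaf.stalk x) := by
    intro x
    obtain ⟨a, rfl⟩ := hs x
    have hfl : (f.stalkMap a).hom.Flat := Flat.stalkMap f a
    algebraize [(f.stalkMap a).hom]
    have hloc : IsLocalHom (algebraMap (B.presheaf.stalk (f a)) (A.presheaf.stalk a)) :=
      inferInstanceAs (IsLocalHom (f.stalkMap a).hom)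
    have : Module.FaithfullyFlat (B.presheaf.stalk (f a)) (A.presheaf.stalk a) :=
      Module.FaithfullyFlat.of_flat_of_isLocalHom
    exact isReduced_of_injective (algebraMap (B.presheaf.stalk (f a)) (A.presheaf.stalk a))
      (FaithfulSMul.algebraMap_injective _ _)
  exact isReduced_of_isReduced_stalk B

/-- A chart diagram whose top arrow is surjective when `f` is surjective. -/
theorem exists_chart_diagram_surjective {X Y : Sp S} (hX : IsAlgSpace X) (f : X ⟶ Y)
    (hs : IsSurjectiveMor f) {V : Over S} {b : (yon S).obj V ⟶ Y} (hbe : RepWith @Etale b) :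
    ∃ (U : Over S) (a : (yon S).obj U ⟶ X) (h : U ⟶ V),
      RepWith @Etale a ∧ a ≫ f = (yon S).map h ≫ b ∧ Function.Surjective h.left := by
  obtain ⟨U, a, h, c, hae, comm, hce, hcs, hca, hch⟩ := exists_chart_diagram hX f hbe
  refine ⟨U, a, h, hae, comm, fun v => ?_⟩
  obtain ⟨y, hy⟩ := isSurjectiveMor_of_isPullback (IsPullback.of_hasPullback f b) hs
    (Points.ofScheme V v)
  obtain ⟨p, hp⟩ := ofPt_surjective_of_repWith hcs y
  refine ⟨p, ?_⟩
  have h1 : Points.ofPt ((yon S).map h) p = Points.ofScheme V v := by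
    rw [← hch, ← Points.map_ofPt, hp, hy]
  have h2 := congrArg (Points.toScheme V) h1
  rwa [Points.toScheme_ofPt, Points.toScheme_ofScheme] at h2

/-- If some étale atlas of `X` is reduced, every scheme étale over `X` is reduced. -/
theorem isReduced_of_etale_of_isReducedSp {X : Sp S} (hXr : IsReducedSp X) {U : Over S}
    (a : (yon S).obj U ⟶ X) (hae : RepWith @Etale a) : AlgebraicGeometry.IsReduced U.left := by
  obtain ⟨U₀, p, hpe, hps, hUr⟩ := hXr
  have sq := hpe.rep.isPullback a
  obtain ⟨q, hq⟩ := (yon S).map_surjective (hpe.rep.fst a)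
  have hqe : Etale q.left := by
    have : RepWith @Etale ((yon S).map q) := by
      rw [hq]
      exact MorphismProperty.of_isPullback (P := RepWith @Etale) sq.flip hae
    exact (repWith_yon_map_iff @Etale q).1 this
  have hπe : Etale (hpe.rep.snd a).left := hpe.property_snd a
  have hπs : Surjective (hpe.rep.snd a).left := hps.property_snd a
  have : AlgebraicGeometry.IsReduced U₀.left := hUr
  have h1 : AlgebraicGeometry.IsReduced (hpe.rep.pullback a).left :=
    Groth.Agent.H4.SmRed.isReduced_of_smooth_scheme q.left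
  exact isReduced_of_flat_surjective (hpe.rep.snd a).left hπs.surj

/-- Reducedness of algebraic spaces descends along flat surjective morphisms. -/
theorem isReducedSp_of_flat_surjective {X Y : Sp S} (hX : IsAlgSpace X) (hY : IsAlgSpace Y)
    (f : X ⟶ Y) (hfl : LocP @Flat f) (hs : IsSurjectiveMor f) (hXr : IsReducedSp X) :
    IsReducedSp Y := by
  obtain ⟨V, b, hbe, hbs⟩ := hY.atlas
  obtain ⟨U, a, h, hae, comm, hsurj⟩ := exists_chart_diagram_surjective hX f hs hbe
  have hUr := isReduced_of_etale_of_isReducedSp hXr a hae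
  have hflat : Flat h.left := hfl a b h hae hbe comm
  exact ⟨V, b, hbe, hbs, isReduced_of_flat_surjective h.left hsurj⟩

/-- Noetherianity of the ring of global sections of an affine scheme descends along a flat,
surjective, open morphism from a locally Noetherian scheme. -/
lemma isNoetherianRing_of_flat_surjective_of_isAffine {A B : Scheme.{u}} [IsAffine B] (f : A ⟶ B)
    [Flat f] (hs : Function.Surjective f) (hopen : IsOpenMap f) [IsLocallyNoetherian A] :
    IsNoetherianRing Γ(B, ⊤) := by
  let 𝒰 := A.affineCover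
  have hop : ∀ i, IsOpen (Set.range (𝒰.f i ≫ f)) := fun i => by
    rw [Scheme.Hom.comp_base, TopCat.coe_comp, Set.range_comp]
    exact hopen _ (𝒰.f i).isOpenEmbedding.isOpen_range
  obtain ⟨t, ht⟩ := isCompact_univ.elim_finite_subcover (fun i => Set.range (𝒰.f i ≫ f)) hop
    (fun b _ => by
      obtain ⟨a, rfl⟩ := hs b
      obtain ⟨i, y, hy⟩ := 𝒰.exists_eq a
      exact Set.mem_iUnion.2 ⟨i, y, by rw [Scheme.Hom.comp_apply, hy]⟩)
  let g : (∐ fun i : ↥t => 𝒰.X i.1) ⟶ B := Sigma.desc fun i : ↥t => 𝒰.f i.1 ≫ f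
  have hgfl : Flat g := IsZariskiLocalAtSource.sigmaDesc (P := @Flat) fun i => inferInstance
  have hgs : Surjective g := by
    refine ⟨fun b => ?_⟩
    have := ht (Set.mem_univ b)
    simp only [Set.mem_iUnion] at this
    obtain ⟨i, hi, y, hy⟩ := this
    refine ⟨Sigma.ι (fun i : ↥t => 𝒰.X i.1) ⟨i, hi⟩ y, ?_⟩
    rw [← Scheme.Hom.comp_apply, Sigma.ι_desc]
    exact hy
  have hLN : IsLocallyNoetherian (∐ fun i : ↥t => 𝒰.X i.1) := by
    rw [isLocallyNoetherian_iff_openCover (sigmaOpenCover _)]
    intro i
    change IsLocallyNoetherian (𝒰.X i.1)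
    infer_instance
  have hff : g.appTop.hom.FaithfullyFlat :=
    (Flat.flat_and_surjective_iff_faithfullyFlat_of_isAffine (f := g)).1 ⟨hgfl, hgs⟩
  have hN : IsNoetherianRing Γ(∐ fun i : ↥t => 𝒰.X i.1, ⊤) :=
    IsLocallyNoetherian.component_noetherian ⟨⊤, isAffineOpen_top _⟩
  algebraize [g.appTop.hom]
  have : Module.FaithfullyFlat Γ(B, ⊤) Γ(∐ fun i : ↥t => 𝒰.X i.1, ⊤) := hff
  have h1 : IsNoetherian Γ(∐ fun i : ↥t => 𝒰.X i.1, ⊤)
      (TensorProduct Γ(B, ⊤) Γ(∐ fun i : ↥t => 𝒰.X i.1, ⊤) Γ(B, ⊤)) :=
    isNoetherian_of_linearEquiv (TensorProduct.AlgebraTensorModule.rid Γ(B, ⊤)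
      Γ(∐ fun i : ↥t => 𝒰.X i.1, ⊤) Γ(∐ fun i : ↥t => 𝒰.X i.1, ⊤)).symm
  exact Submodule.IsNoetherian.of_isNoetherian_tensorProduct_of_faithfullyFlat h1

/-- Local Noetherianity descends along flat, surjective morphisms locally of finite
presentation. -/
lemma isLocallyNoetherian_of_fppf_surjective {A B : Scheme.{u}} (f : A ⟶ B) [Flat f]
    [LocallyOfFinitePresentation f] (hs : Function.Surjective f) [IsLocallyNoetherian A] :
    IsLocallyNoetherian B := by
  rw [isLocallyNoetherian_iff_of_affine_openCover B.affineCover]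
  intro i
  have hsurj : Surjective f := ⟨hs⟩
  have h1 : IsLocallyNoetherian (pullback f (B.affineCover.f i)) :=
    isLocallyNoetherian_of_isOpenImmersion (pullback.fst f (B.affineCover.f i))
  have h2 : Surjective (pullback.snd f (B.affineCover.f i)) := inferInstance
  exact isNoetherianRing_of_flat_surjective_of_isAffine (pullback.snd f (B.affineCover.f i))
    h2.surj (pullback.snd f (B.affineCover.f i)).isOpenMap

/-- If some étale atlas of `X` is locally Noetherian, every scheme étale over `X` is locally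
Noetherian. -/
theorem isLocallyNoetherian_of_etale_of_isLocNoethSp {X : Sp S} (hXr : IsLocNoethSp X)
    {U : Over S} (a : (yon S).obj U ⟶ X) (hae : RepWith @Etale a) :
    IsLocallyNoetherian U.left := by
  obtain ⟨U₀, p, hpe, hps, hUr⟩ := hXr
  have sq := hpe.rep.isPullback a
  obtain ⟨q, hq⟩ := (yon S).map_surjective (hpe.rep.fst a)
  have hqe : Etale q.left := by
    have : RepWith @Etale ((yon S).map q) := by
      rw [hq]
      exact MorphismProperty.of_isPullback (P := RepWith @Etale) sq.flip hae
    exact (repWith_yon_map_iff @Etale q).1 this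
  have hπe : Etale (hpe.rep.snd a).left := hpe.property_snd a
  have hπs : Surjective (hpe.rep.snd a).left := hps.property_snd a
  have : IsLocallyNoetherian U₀.left := hUr
  have h1 : IsLocallyNoetherian (hpe.rep.pullback a).left :=
    LocallyOfFiniteType.isLocallyNoetherian q.left
  exact isLocallyNoetherian_of_fppf_surjective (hpe.rep.snd a).left hπs.surj

/-- Local Noetherianity of algebraic spaces descends along fppf surjective morphisms. -/
theorem isLocNoethSp_of_fppf_surjective {X Y : Sp S} (hX : IsAlgSpace X) (hY : IsAlgSpace Y)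
    (f : X ⟶ Y) (hfp : LocP @LocallyOfFinitePresentation f) (hfl : LocP @Flat f)
    (hs : IsSurjectiveMor f) (hXr : IsLocNoethSp X) : IsLocNoethSp Y := by
  obtain ⟨V, b, hbe, hbs⟩ := hY.atlas
  obtain ⟨U, a, h, hae, comm, hsurj⟩ := exists_chart_diagram_surjective hX f hs hbe
  have hUr := isLocallyNoetherian_of_etale_of_isLocNoethSp hXr a hae
  have hflat : Flat h.left := hfl a b h hae hbe comm
  have hlfp : LocallyOfFinitePresentation h.left := hfp a b h hae hbe comm
  exact ⟨V, b, hbe, hbs, isLocallyNoetherian_of_fppf_surjective h.left hsurj⟩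

end Groth.Agent.H3.AlgSpCov
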