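import Mathlib
import Groth.Agent.Lib.Helper3.AlgSpCov.Source

set_option autoImplicit false
set_option linter.overlappingInstances false
set_option linter.unusedSectionVars false

universe u

open CategoryTheory CategoryTheory.Limits AlgebraicGeometry MorphismProperty Opposite Topology

namespace Groth.Agent.H3.AlgSpCov

open _root_.AlgSp Groth.Agent.H5.AlgSp Groth.Agent.H5.EtSrc

variable {S : Scheme.{u}}

/-! ### Smooth and étale calculus -/

theorem locP_id {P : MorphismProperty Scheme.{u}} [P.IsStableUnderBaseChange]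
    [P.IsStableUnderComposition] [IsEtaleLocalSource P]
    (hP : (@Etale : MorphismProperty Scheme.{u}) ≤ P) (X : Sp S) : LocP P (𝟙 X) := by
  intro U V a b h ha hb comm
  rw [Category.comp_id] at comm
  have h1 : RepWith @Etale ((yon S).map h ≫ b) := by rw [← comm]; exact ha
  exact hP _ _ _ ((repWith_yon_map_iff @Etale h).1 (repWith_etale_of_comp h1 hb))

theorem locP_smooth_id (X : Sp S) : LocP @Smooth (𝟙 X) := locP_id etale_le_smooth X

theorem locP_smooth_of_isEtaleMor {X Y : Sp S} (hY : IsAlgSpace Y) {f : X ⟶ Y}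
    (hf : IsEtaleMor f) : LocP @Smooth f := by
  intro U V a b h ha hb comm
  exact etale_le_smooth _ _ _ ((isEtaleMor_iff_locP hY f).1 hf a b h ha hb comm)

theorem isEtaleMor_id {X : Sp S} (hX : IsAlgSpace X) : IsEtaleMor (𝟙 X) :=
  (isEtaleMor_iff_locP hX _).2 (locP_id le_rfl X)

/-- A small jointly surjective subfamily of a family of morphisms indexed by points. -/
theorem exists_small_family {X : Sp S} (hX : IsAlgSpace X) {D : Type*} (dom : D → Sp S)
    (mor : ∀ d, dom d ⟶ X) (h : ∀ x : Points X, ∃ d, x ∈ Set.range (Points.map (mor d))) :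
    ∃ (ι : Type u) (φ : ι → D), ∀ x : Points X, ∃ i, x ∈ Set.range (Points.map (mor (φ i))) := by
  obtain ⟨T, p, hpe, hps⟩ := hX.atlas
  choose d hd using h
  refine ⟨↥T.left, fun t => d (Points.ofPt p t), fun x => ?_⟩
  obtain ⟨t, rfl⟩ := ofPt_surjective_of_repWith hps x
  exact ⟨t, hd _⟩

/-- Two-element families. -/
def pairFam (X Y : Sp S) : ULift.{u} Bool → Sp S := fun b => Bool.rec Y X b.down

def pairMor {X Y Z : Sp S} (f : X ⟶ Z) (g : Y ⟶ Z) : ∀ b, pairFam X Y b ⟶ Z
  | ⟨true⟩ => f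
  | ⟨false⟩ => g

def pairMap {X Y X' Y' : Sp S} (f : X ⟶ X') (g : Y ⟶ Y') : ∀ b, pairFam X Y b ⟶ pairFam X' Y' b
  | ⟨true⟩ => f
  | ⟨false⟩ => g

lemma pairFam_isAlgSpace {X Y : Sp S} (hX : IsAlgSpace X) (hY : IsAlgSpace Y) :
    ∀ b, IsAlgSpace (pairFam X Y b)
  | ⟨true⟩ => hX
  | ⟨false⟩ => hY

/-! ### Smooth local on source-and-target -/

theorem IsSmoothLocalST.isLocalOnSource {P : MorphismProperty (Sp S)} (hP : IsSmoothLocalST P) :
    IsLocalOnSource (IsSmCover (S := S)) P := by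
  intro ι X Xi g hX hXi hcov Y f hY
  constructor
  · intro hf i
    exact hP.precomp (hXi i) hX hY (g i) f (hcov.1 i) hf
  · intro hf
    rw [hP.locality hX hY f]
    intro x
    obtain ⟨i, xi, hxi⟩ := hcov.2 x
    exact ⟨Xi i, Y, g i, 𝟙 Y, g i ≫ f, xi, hXi i, hY, hcov.1 i, locP_smooth_id Y,
      by rw [Category.comp_id], hxi, hf i⟩

theorem IsSmoothLocalST.isLocalOnBase {P : MorphismProperty (Sp S)} (hP : IsSmoothLocalST P) :
    IsLocalOnBase (IsSmCover (S := S)) P := by
  intro ι Y Yi g hY hYi hcov X f hX Xi p q hXi sq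
  constructor
  · intro hf i
    exact hP.baseChange hX hY (hXi i) (hYi i) f (g i) (p i) (q i) (sq i) (hcov.1 i) hf
  · intro hp
    rw [hP.locality hX hY f]
    intro x
    obtain ⟨i, yi, hyi⟩ := hcov.2 (Points.map f x)
    obtain ⟨z, hz1, hz2⟩ := points_pullback_surjective (sq i) x yi hyi.symm
    exact ⟨Xi i, Yi i, q i, g i, p i, z, hXi i, hYi i,
      locP_of_isPullback etale_le_smooth (sq i).flip (hYi i) hY hX (hcov.1 i), hcov.1 i,
      (sq i).w, hz1, hp i⟩

theorem IsSmoothLocalST.postcomp {P : MorphismProperty (Sp S)} (hP : IsSmoothLocalST P)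
    {X Y Z : Sp S} (hX : IsAlgSpace X) (hY : IsAlgSpace Y) (hZ : IsAlgSpace Z) (f : X ⟶ Y)
    (g : Y ⟶ Z) (hf : P f) (hg : LocP @Smooth g) : P (f ≫ g) := by
  rw [hP.locality hX hZ (f ≫ g)]
  intro x
  exact ⟨X, Y, 𝟙 X, g, f, x, hX, hY, locP_smooth_id X, hg, by rw [Category.id_comp],
    Points.map_id x, hf⟩

theorem isSmoothLocalST_of_local (P : MorphismProperty (Sp S))
    (h1 : IsLocalOnSource (IsSmCover (S := S)) P) (h2 : IsLocalOnBase (IsSmCover (S := S)) P)
    (h3 : ∀ ⦃X Y Z : Sp S⦄, IsAlgSpace X → IsAlgSpace Y → IsAlgSpace Z → ∀ (f : X ⟶ Y)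
      (g : Y ⟶ Z), P f → LocP @Smooth g → P (f ≫ g)) : IsSmoothLocalST P where
  precomp := by
    intro X Y Z hX hY hZ f g hf hg
    have hcov : IsSmCover (pairFam X Y) (pairMor f (𝟙 Y)) :=
      ⟨fun b => match b with
        | ⟨true⟩ => hf
        | ⟨false⟩ => locP_smooth_id Y, fun y => ⟨⟨false⟩, y, Points.map_id y⟩⟩
    exact (h1 _ _ hY (pairFam_isAlgSpace hX hY) hcov g hZ).1 hg ⟨true⟩
  baseChange := by
    intro X Y X' Y' hX hY hX' hY' f g f' g' sq hg hf
    have hcov : IsSmCover (pairFam Y' Y) (pairMor g (𝟙 Y)) :=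
      ⟨fun b => match b with
        | ⟨true⟩ => hg
        | ⟨false⟩ => locP_smooth_id Y, fun y => ⟨⟨false⟩, y, Points.map_id y⟩⟩
    exact (h2 _ _ hY (pairFam_isAlgSpace hY' hY) hcov f hX (pairFam X' X) (pairMap f' f)
      (pairMor g' (𝟙 X)) (pairFam_isAlgSpace hX' hX) (fun b => match b with
        | ⟨true⟩ => sq
        | ⟨false⟩ => IsPullback.id_horiz f)).1 hf ⟨true⟩
  locality := by
    intro X Y hX hY f
    constructor
    · intro hf x
      exact ⟨X, Y, 𝟙 X, 𝟙 Y, f, x, hX, hY, locP_smooth_id X, locP_smooth_id Y,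
        by rw [Category.id_comp, Category.comp_id], Points.map_id x, hf⟩
    · intro h
      choose U V a b k v hU hV ha hb comm hv hk using h
      obtain ⟨ι, φ, hφ⟩ := exists_small_family hX (D := Points X) U a
        (fun x => ⟨x, v x, hv x⟩)
      refine (h1 (fun i => U (φ i)) (fun i => a (φ i)) hX (fun i => hU _) ⟨fun i => ha _, hφ⟩
        f hY).2 fun i => ?_
      rw [comm]
      exact h3 (hU _) (hV _) hY _ _ (hk _) (hb _)

end Groth.Agent.H3.AlgSpCov
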