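import Mathlib
import Groth.Agent.Lib.Helper3.AlgSpCov.SmoothST

set_option autoImplicit false
set_option linter.overlappingInstances false
set_option linter.unusedSectionVars false

universe u

open CategoryTheory CategoryTheory.Limits AlgebraicGeometry MorphismProperty Opposite Topology

namespace Groth.Agent.H3.AlgSpCov

open _root_.AlgSp Groth.Agent.H5.AlgSp Groth.Agent.H5.EtSrc

variable {S : Scheme.{u}}

theorem isEtaleMor_of_isPullback {X Y X' Y' : Sp S} {f : X ⟶ Y} {g : Y' ⟶ Y} {fst : X' ⟶ X}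
    {f' : X' ⟶ Y'} (sq : IsPullback fst f' f g) (hX : IsAlgSpace X) (hY : IsAlgSpace Y)
    (hY' : IsAlgSpace Y') (hf : IsEtaleMor f) : IsEtaleMor f' :=
  (isEtaleMor_iff_locP hY' f').2
    (locP_of_isPullback le_rfl sq hX hY hY' ((isEtaleMor_iff_locP hY f).1 hf))

theorem isEtaleMor_of_comp {X Y Z : Sp S} {f : X ⟶ Y} {g : Y ⟶ Z} (hY : IsAlgSpace Y)
    (hZ : IsAlgSpace Z) (hfg : IsEtaleMor (f ≫ g)) (hg : IsEtaleMor g) : IsEtaleMor f :=
  (isEtaleMor_iff_locP hY f).2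
    (locP_of_comp (P := @Etale) (Pc := @Etale) le_rfl
      (fun u v huv hv => MorphismProperty.of_postcomp (W := @Etale) (W' := @Etale) u v hv huv)
      hZ ((isEtaleMor_iff_locP hZ _).1 hfg) ((isEtaleMor_iff_locP hZ g).1 hg))

/-- The graph of `f` over an étale `g` is étale. -/
theorem isEtaleMor_graph {X Y Z : Sp S} (hX : IsAlgSpace X) (hY : IsAlgSpace Y)
    (hZ : IsAlgSpace Z) (f : X ⟶ Y) (g : Y ⟶ Z) (hg : IsEtaleMor g) :
    IsEtaleMor (pullback.lift (𝟙 X) f (by rw [Category.id_comp]) :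
      X ⟶ pullback (f ≫ g) g) := by
  have sq := IsPullback.of_hasPullback (f ≫ g) g
  have hW : IsAlgSpace (pullback (f ≫ g) g) := isAlgSpace_pullback hZ.diag hX hY sq
  have hp : IsEtaleMor (pullback.fst (f ≫ g) g) :=
    isEtaleMor_of_isPullback sq.flip hY hZ hX hg
  refine isEtaleMor_of_comp hW hX ?_ hp
  rw [pullback.lift_fst]
  exact isEtaleMor_id hX

theorem IsEtaleSmoothLocalST.isLocalOnSource {P : MorphismProperty (Sp S)}
    (hP : IsEtaleSmoothLocalST P) : IsLocalOnSource (IsEtCover (S := S)) P := by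
  intro ι X Xi g hX hXi hcov Y f hY
  constructor
  · intro hf i
    exact hP.precomp (hXi i) hX hY (g i) f (hcov.1 i) hf
  · intro hf
    rw [hP.locality hX hY f]
    intro x
    obtain ⟨i, xi, hxi⟩ := hcov.2 x
    exact ⟨Y, X, Xi i, 𝟙 Y, 𝟙 X, f, g i, xi, hY, hX, hXi i, locP_smooth_id Y,
      IsPullback.id_horiz f, hcov.1 i, by rw [Category.comp_id]; exact hxi, hf i⟩

theorem IsEtaleSmoothLocalST.isLocalOnBase {P : MorphismProperty (Sp S)}
    (hP : IsEtaleSmoothLocalST P) : IsLocalOnBase (IsSmCover (S := S)) P := by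
  intro ι Y Yi g hY hYi hcov X f hX Xi p q hXi sq
  constructor
  · intro hf i
    exact hP.baseChange hX hY (hXi i) (hYi i) f (g i) (p i) (q i) (sq i) (hcov.1 i) hf
  · intro hp
    rw [hP.locality hX hY f]
    intro x
    obtain ⟨i, yi, hyi⟩ := hcov.2 (Points.map f x)
    obtain ⟨z, hz1, hz2⟩ := points_pullback_surjective (sq i) x yi hyi.symm
    exact ⟨Yi i, Xi i, Xi i, g i, q i, p i, 𝟙 _, z, hYi i, hXi i, hXi i, hcov.1 i, sq i,
      isEtaleMor_id (hXi i), by rw [Category.id_comp]; exact hz1,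
      by rw [Category.id_comp]; exact hp i⟩

theorem IsEtaleSmoothLocalST.postcomp {P : MorphismProperty (Sp S)}
    (hP : IsEtaleSmoothLocalST P) {X Y Z : Sp S} (hX : IsAlgSpace X) (hY : IsAlgSpace Y)
    (hZ : IsAlgSpace Z) (f : X ⟶ Y) (g : Y ⟶ Z) (hf : P f) (hg : IsEtaleMor g) :
    P (f ≫ g) := by
  rw [hP.locality hX hZ (f ≫ g)]
  intro x
  have sq := IsPullback.of_hasPullback (f ≫ g) g
  have hW : IsAlgSpace (pullback (f ≫ g) g) := isAlgSpace_pullback hZ.diag hX hY sq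
  refine ⟨Y, pullback (f ≫ g) g, X, g, pullback.fst _ _, pullback.snd _ _,
    pullback.lift (𝟙 X) f (by rw [Category.id_comp]), x, hY, hW, hX,
    locP_smooth_of_isEtaleMor hZ hg, sq, isEtaleMor_graph hX hY hZ f g hg, ?_, ?_⟩
  · rw [pullback.lift_fst]; exact Points.map_id x
  · rw [pullback.lift_snd]; exact hf

theorem IsEtaleSmoothLocalST.of_postcomp {P : MorphismProperty (Sp S)}
    (hP : IsEtaleSmoothLocalST P) {X Y Z : Sp S} (hX : IsAlgSpace X) (hY : IsAlgSpace Y)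
    (hZ : IsAlgSpace Z) (f : X ⟶ Y) (g : Y ⟶ Z) (hg : IsEtaleMor g) (hfg : P (f ≫ g)) :
    P f := by
  have sq := IsPullback.of_hasPullback (f ≫ g) g
  have hW : IsAlgSpace (pullback (f ≫ g) g) := isAlgSpace_pullback hZ.diag hX hY sq
  have h1 : P (pullback.snd (f ≫ g) g) :=
    hP.baseChange hX hZ hW hY (f ≫ g) g _ _ sq (locP_smooth_of_isEtaleMor hZ hg) hfg
  have h2 := hP.precomp hX hW hY _ _ (isEtaleMor_graph hX hY hZ f g hg) h1
  rwa [pullback.lift_snd] at h2

end Groth.Agent.H3.AlgSpCov
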