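import Groth.Agent.Lib.Helper3.Desc.FpqcAffine
import Groth.Agent.Lib.Helper3.AlgSpCov.YonCoprod
import Groth.Agent.Lib.Helper3.AlgSpCov.LocPBaseInst
import Groth.Agent.Lib.Helper5.AlgSp.ZarCoverRep
import Groth.Agent.Lib.Helper5.AlgSp.AffineMor
import Groth.Agent.Lib.Helper5.AlgSp.IntegralMor
import Mathlib

/-!
# Affine morphisms, closed immersions and finite morphisms of algebraic spaces are fpqc local on the base
-/

set_option autoImplicit false

universe u

open CategoryTheory CategoryTheory.Limits AlgebraicGeometry Opposite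

namespace Groth.Agent.H3.AlgSpCov

open _root_.AlgSp Groth.Agent.H5.AlgSp Groth.Agent.H3.FpqcDesc

variable {S : Scheme.{u}}

/-- The inclusions into a disjoint union of schemes form a Zariski covering. -/
theorem isZarCover_sigmaOverι {ι : Type u} (W : ι → Over S) :
    IsZarCover (fun j => (yon S).obj (W j)) (fun j => (yon S).map (sigmaOverι W j)) := by
  refine ⟨fun j => (repWith_yon_map_iff @IsOpenImmersion _).2 ?_, fun x => ?_⟩
  · rw [sigmaOverι_left]
    exact (sigmaOpenCover (fun i => (W i).left)).map_prop j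
  · obtain ⟨y, rfl⟩ := (Points.schemeHomeo (sigmaOver W)).surjective x
    obtain ⟨j, y', hy'⟩ := (sigmaOpenCover (fun i => (W i).left)).exists_eq y
    refine ⟨j, Points.schemeHomeo (W j) y', ?_⟩
    rw [Points.map_yon_map_apply]
    congr 1

/-- Reduction of a finite family to its disjoint union. -/
theorem repWith_sigma_of_family (P : MorphismProperty Scheme.{u}) [P.IsStableUnderBaseChange]
    [IsZariskiLocalAtTarget P] {ι : Type u} (W : ι → Over S) {Z : Over S} (c : ∀ j, W j ⟶ Z)
    {F : Sp S} (π : F ⟶ (yon S).obj Z) (hQ : ∀ j, RepWith P (pullback.snd π ((yon S).map (c j)))) :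
    RepWith P (pullback.snd π ((yon S).map (sigmaOverDesc W c))) := by
  refine repWith_of_isZarCover (fun j => (yon S).obj (W j)) (fun j => (yon S).map (sigmaOverι W j))
    (isZarCover_sigmaOverι W) (fun j => pullback (pullback.snd π ((yon S).map (sigmaOverDesc W c)))
      ((yon S).map (sigmaOverι W j))) (fun j => pullback.fst _ _) (fun j => pullback.snd _ _)
    (fun j => IsPullback.of_hasPullback _ _) P (fun j => ?_)
  have big : IsPullback
      (pullback.fst (pullback.snd π ((yon S).map (sigmaOverDesc W c)))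
        ((yon S).map (sigmaOverι W j)) ≫ pullback.fst π ((yon S).map (sigmaOverDesc W c)))
      (pullback.snd (pullback.snd π ((yon S).map (sigmaOverDesc W c)))
        ((yon S).map (sigmaOverι W j))) π ((yon S).map (c j)) := by
    have h := (IsPullback.of_hasPullback (pullback.snd π ((yon S).map (sigmaOverDesc W c)))
      ((yon S).map (sigmaOverι W j))).paste_horiz
      (IsPullback.of_hasPullback π ((yon S).map (sigmaOverDesc W c)))
    rwa [← Functor.map_comp, sigmaOverι_desc] at h
  rw [← big.isoIsPullback_hom_snd _ _ (IsPullback.of_hasPullback π ((yon S).map (c j)))]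
  exact MorphismProperty.RespectsIso.precomp _ _ _ (hQ j)

/-- **Properties of affine morphisms given by faithfully flat descending ring theoretic properties
can be checked fpqc locally on the base**, for morphisms of algebraic spaces. -/
theorem fpqcLocal_repWith_of_affine (P : MorphismProperty Scheme.{u}) [P.IsStableUnderBaseChange]
    [IsZariskiLocalAtTarget P]
    (Q : ∀ {R T : Type u} [CommRing R] [CommRing T], (R →+* T) → Prop)
    (hP1 : P ≤ @IsAffineHom)
    (hP2 : ∀ {X Y : Scheme.{u}} (f : X ⟶ Y) [IsAffine X] [IsAffine Y], P f ↔ Q f.appTop.hom)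
    (hQ1 : RingHom.RespectsIso Q) (hQ2 : RingHom.CodescendsAlong Q RingHom.FaithfullyFlat) :
    FpqcLocal (RepWith P (S := S)) := by
  intro X Y f hX hY hloc
  apply repWith_of_forall_affine' P
  intro Z hZ g P₀ fst snd sqP
  have hP₀ : IsAlgSpace P₀ := isAlgSpace_pullback hY.diag hX (IsAlgSpace.yon_obj Z) sqP
  obtain ⟨m, W, c, hWaff, hflat, hsurj, hQ⟩ := hloc Z hZ g
  -- Step A
  have hA : ∀ j, RepWith P (pullback.snd snd ((yon S).map (c j))) := by
    intro j
    have big : IsPullback (pullback.fst snd ((yon S).map (c j)) ≫ fst)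
        (pullback.snd snd ((yon S).map (c j))) f ((yon S).map (c j) ≫ g) :=
      (IsPullback.of_hasPullback snd ((yon S).map (c j))).paste_horiz sqP
    rw [← big.isoIsPullback_hom_snd _ _ (IsPullback.of_hasPullback f ((yon S).map (c j) ≫ g))]
    exact MorphismProperty.RespectsIso.precomp _ _ _ (hQ j)
  -- Step B
  let W' : ULift.{u} (Fin m) → Over S := fun j => W j.down
  let c' : ∀ j, W' j ⟶ Z := fun j => c j.down
  have hσ := repWith_sigma_of_family P W' c' snd (fun j => hA j.down)
  have : ∀ j : ULift.{u} (Fin m), IsAffine (W' j).left := fun j => hWaff j.down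
  have hprops := sigmaDesc_props (fun j => (W' j).left) (fun j => (c' j).left)
    (fun j => hflat j.down) (fun z => by
      obtain ⟨j, hj⟩ := hsurj z
      exact ⟨⟨j⟩, hj⟩)
  have hσaff : IsAffine (sigmaOver W').left := hprops.1
  have hσsurj : Surjective (sigmaOverDesc W' c').left := hprops.2.1
  have hσflat : Flat (sigmaOverDesc W' c').left := hprops.2.2
  -- Step C
  set cσ := sigmaOverDesc W' c' with hcσ
  have sq1 := hσ.rep.isPullback (𝟙 ((yon S).obj (sigmaOver W')))
  set v := hσ.rep.snd (𝟙 ((yon S).obj (sigmaOver W'))) with hv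
  have hPv : P v.left := hσ.property_snd _
  have hvaff : IsAffineHom v.left := hP1 _ hPv
  have hW₁ : IsAffine (hσ.rep.pullback (𝟙 ((yon S).obj (sigmaOver W')))).left :=
    isAffine_of_isAffineHom v.left
  have sq : IsPullback (hσ.rep.fst (𝟙 ((yon S).obj (sigmaOver W'))) ≫
      pullback.fst snd ((yon S).map cσ)) ((yon S).map v) snd ((yon S).map cσ) := by
    have h := sq1.paste_horiz (IsPullback.of_hasPullback snd ((yon S).map cσ))
    rwa [Category.id_comp] at h
  -- Step D
  have hZ' : IsAffine Z.left := hZ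
  obtain ⟨W₀, w, e, hW₀, he, htr⟩ := exists_descent_of_isAffine_fpqc cσ v hP₀ snd _ sq
  -- Step E
  have hPw : P w.left := by
    rw [hP2]
    refine htr Q hQ1 hQ2 ?_
    rw [← hP2]
    exact hPv
  -- Step F
  have hsnd : snd = e.inv ≫ (yon S).map w := by
    rw [← he, Iso.inv_hom_id_assoc]
  rw [hsnd]
  exact MorphismProperty.RespectsIso.precomp _ _ _ ((repWith_yon_map_iff P w).2 hPw)

theorem bcStable_repWith (P : MorphismProperty Scheme.{u}) [P.IsStableUnderBaseChange] :
    BCStable (RepWith P (S := S)) := by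
  intro X Y X' Y' f g fst f' _ _ _ sq hf
  exact MorphismProperty.of_isPullback (P := RepWith P) sq hf

theorem isLocalOnBase_fpqc_repWith_of_affine (P : MorphismProperty Scheme.{u})
    [P.IsStableUnderBaseChange] [IsZariskiLocalAtTarget P]
    (Q : ∀ {R T : Type u} [CommRing R] [CommRing T], (R →+* T) → Prop)
    (hP1 : P ≤ @IsAffineHom)
    (hP2 : ∀ {X Y : Scheme.{u}} (f : X ⟶ Y) [IsAffine X] [IsAffine Y], P f ↔ Q f.appTop.hom)
    (hQ1 : RingHom.RespectsIso Q) (hQ2 : RingHom.CodescendsAlong Q RingHom.FaithfullyFlat) :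
    IsLocalOnBase (IsFpqcCover (S := S)) (RepWith P) :=
  isLocalOnBase_fpqc_of (bcStable_repWith P) (fpqcLocal_repWith_of_affine P Q hP1 hP2 hQ1 hQ2)

/-- Affine morphisms. -/
theorem isLocalOnBase_fpqc_repWith_isAffineHom :
    IsLocalOnBase (IsFpqcCover (S := S)) (RepWith @IsAffineHom) := by
  refine isLocalOnBase_fpqc_repWith_of_affine @IsAffineHom (fun _ => True) le_rfl ?_ ?_ ?_
  · intro X Y f _ _
    exact ⟨fun _ => trivial, fun _ => inferInstance⟩
  · exact ⟨fun _ _ _ => trivial, fun _ _ _ => trivial⟩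
  · intro _ _ _ _ _ _ _ _ _ _ _ _ _ _ _ _ _ _
    trivial

theorem isLocalOnBase_fpqc_isAffineMor :
    IsLocalOnBase (IsFpqcCover (S := S)) IsAffineMor :=
  isLocalOnBase_congr (fun _ _ _ _ _ =>
    ⟨isAffineMor_of_repWith, repWith_isAffineHom_of_isAffineMor⟩)
    isLocalOnBase_fpqc_repWith_isAffineHom

/-- Closed immersions. -/
theorem isLocalOnBase_fpqc_repWith_isClosedImmersion :
    IsLocalOnBase (IsFpqcCover (S := S)) (RepWith @IsClosedImmersion) := by
  refine isLocalOnBase_fpqc_repWith_of_affine @IsClosedImmersion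
    (fun f => Function.Surjective f) ?_ ?_ RingHom.surjective_respectsIso
    RingHom.FaithfullyFlat.codescendsAlong_surjective
  · intro X Y f hf
    have : IsClosedImmersion f := hf
    infer_instance
  · intro X Y f _ _
    rw [HasAffineProperty.iff_of_isAffine (P := @IsClosedImmersion)]
    exact ⟨fun h => h.2, fun h => ⟨inferInstance, h⟩⟩

/-- Finite morphisms. -/
theorem isLocalOnBase_fpqc_repWith_isFinite :
    IsLocalOnBase (IsFpqcCover (S := S)) (RepWith @IsFinite) := by
  refine isLocalOnBase_fpqc_repWith_of_affine @IsFinite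
    RingHom.Finite ?_ ?_ RingHom.finite_respectsIso
    RingHom.Finite.codescendsAlong_faithfullyFlat
  · intro X Y f hf
    have : IsFinite f := hf
    infer_instance
  · intro X Y f _ _
    rw [HasAffineProperty.iff_of_isAffine (P := @IsFinite)]
    exact ⟨fun h => h.2, fun h => ⟨inferInstance, h⟩⟩

theorem isLocalOnBase_fpqc_isFiniteMor :
    IsLocalOnBase (IsFpqcCover (S := S)) IsFiniteMor :=
  isLocalOnBase_congr (fun _ _ _ _ _ => isFiniteMor_iff_repWith.symm)
    isLocalOnBase_fpqc_repWith_isFinite

end Groth.Agent.H3.AlgSpCov
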