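import Mathlib
import Groth.Prelude.Def_AlgSpEt
import Groth.Prelude.Def_AlgSpCov
import Groth.Agent.Lib.Helper5.AlgSp.Points

set_option autoImplicit false
set_option linter.unusedSectionVars false
set_option backward.isDefEq.respectTransparency false

universe u

open CategoryTheory CategoryTheory.Limits AlgebraicGeometry MorphismProperty Opposite

namespace Groth.Agent.H3.BigSmall

open _root_.AlgSp Groth.Agent.H5.AlgSp

variable {S : Scheme.{u}}

/-- The refinement property: every map from a scheme to `Z` lifts, étale locally on the scheme,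
to a member of the sieve. -/
def Refines (Z : Space S) (T : Sieve Z) : Prop :=
  ∀ (U : Over S) (a : (ofScheme S).obj U ⟶ Z) (u : ↥U.left),
    ∃ (V : Over S) (e : V ⟶ U) (v : ↥V.left), Etale e.left ∧ e.left v = u ∧
      T ((ofScheme S).map e ≫ a)

theorem refines_of_mem_spacesPre {Z : Space S} (R : Presieve Z)
    (hR : R ∈ spacesPre S IsEtaleMor Z) : Refines Z (Sieve.generate R) := by
  intro U a u
  obtain ⟨Y, g, hg, y, hy⟩ := hR.2 (Points.ofPt a.hom u)
  obtain ⟨W, b, hbe, hbs⟩ := Y.property.atlas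
  obtain ⟨w, rfl⟩ := ofPt_surjective_of_repWith hbs y
  have hbg : RepWith @Etale (b ≫ g.hom) := hR.1 g hg b hbe
  -- pull back along `a`
  have sq := hbg.rep.isPullback a.hom
  have hsnd : Etale (hbg.rep.snd a.hom).left := hbg.property_snd _
  obtain ⟨p, hp1, hp2⟩ := exists_point_of_isPullback sq (Points.ofScheme W w) u (by
    rw [← Points.ofPt_eq_map_ofScheme, ← hy, Points.map_ofPt])
  refine ⟨_, hbg.rep.snd a.hom, p, hsnd, hp1, ?_⟩
  refine ⟨Y, ObjectProperty.homMk (hbg.rep.fst a.hom ≫ b), g, hg, ?_⟩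
  ext : 1
  change (hbg.rep.fst a.hom ≫ b) ≫ g.hom = (yon S).map _ ≫ a.hom
  rw [Category.assoc, sq.w]

theorem refines_of_saturate {Z : Space S} {T : Sieve Z}
    (hT : (spacesPre S IsEtaleMor).Saturate Z T) : Refines Z T := by
  induction hT with
  | of X R hR => exact refines_of_mem_spacesPre R hR
  | top X =>
    intro U a u
    exact ⟨U, 𝟙 U, u, by simpa using (inferInstance : Etale (𝟙 U.left)), rfl, trivial⟩
  | pullback X T hT Y f ih =>
    intro U a u
    obtain ⟨V, e, v, he, hv, hmem⟩ := ih U (a ≫ f) u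
    refine ⟨V, e, v, he, hv, ?_⟩
    change T (((ofScheme S).map e ≫ a) ≫ f)
    rwa [Category.assoc]
  | transitive X T R hT hR ih1 ih2 =>
    intro U a u
    obtain ⟨V, e, v, he, hv, hmem⟩ := ih1 U a u
    obtain ⟨V', e', v', he', hv', hmem'⟩ := ih2 hmem V (𝟙 _) v
    refine ⟨V', e' ≫ e, v', ?_, ?_, ?_⟩
    · rw [Over.comp_left]; infer_instance
    · rw [Over.comp_left, Scheme.Hom.comp_apply, hv', hv]
    · have : R (((ofScheme S).map e' ≫ 𝟙 _) ≫ (ofScheme S).map e ≫ a) := hmem'
      rwa [Category.comp_id, ← Category.assoc, ← Functor.map_comp] at this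

theorem refines_of_mem_spacesTop {Z : Space S} {T : Sieve Z}
    (hT : T ∈ spacesTop S IsEtaleMor Z) : Refines Z T :=
  refines_of_saturate hT

end Groth.Agent.H3.BigSmall
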