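import Mathlib
import Groth.Prelude.Def_AlgSpEt
import Groth.Prelude.Def_AlgSpCov
import Groth.Agent.Lib.Helper5.AlgSp.Points

set_option autoImplicit false
set_option linter.unusedSectionVars false
set_option backward.isDefEq.respectTransparency false

universe u

open CategoryTheory CategoryTheory.Limits AlgebraicGeometry MorphismProperty Opposite

namespace Groth.Agent.H3.BigSmall

open _root_.AlgSp Groth.Agent.H5.AlgSp

variable {S : Scheme.{u}} {X Y : Space S} (f : Y ⟶ X)

/-- The functor from the small étale site of `Y` to the big site of spaces over `X`. -/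
noncomputable abbrev bigF : EtOver Y.obj ⥤ Over X :=
  EtOver.toEtSpOver Y ⋙ ObjectProperty.ι (fun E : Over Y => IsEtaleMor E.hom.hom) ⋙ Over.map f

variable {E₁ E₂ E₀ : EtOver Y.obj} (g₁ : E₁ ⟶ E₀) (g₂ : E₂ ⟶ E₀)

theorem isPullback_bigF :
    IsPullback ((bigF f).map (EtOver.pullbackFst g₁ g₂)) ((bigF f).map (EtOver.pullbackSnd g₁ g₂))
      ((bigF f).map g₁) ((bigF f).map g₂) := by
  have comm : (bigF f).map (EtOver.pullbackFst g₁ g₂) ≫ (bigF f).map g₁ =
      (bigF f).map (EtOver.pullbackSnd g₁ g₂) ≫ (bigF f).map g₂ := by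
    rw [← Functor.map_comp, ← Functor.map_comp, EtOver.pullback_condition]
  refine IsPullback.of_map (Over.forget X) comm ?_
  have comm' : (Over.forget X).map ((bigF f).map (EtOver.pullbackFst g₁ g₂)) ≫
      (Over.forget X).map ((bigF f).map g₁) =
      (Over.forget X).map ((bigF f).map (EtOver.pullbackSnd g₁ g₂)) ≫
        (Over.forget X).map ((bigF f).map g₂) := by
    exact congrArg (fun k => (Over.forget X).map k) comm
  refine IsPullback.of_map (ObjectProperty.ι _) comm' ?_
  exact ((EtOver.isPullback g₁ g₂).map (EtOver.forget Y.obj)).map (yon S)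

instance preservesLimit_cospan_bigF : PreservesLimit (cospan g₁ g₂) (bigF f) :=
  preservesLimit_of_preserves_limit_cone (EtOver.pullbackIsLimit g₁ g₂)
    ((isLimitMapConePullbackConeEquiv _ _).symm (isPullback_bigF f g₁ g₂).isLimit)

instance preservesPullbacks_bigF : PreservesLimitsOfShape WalkingCospan (bigF f) where
  preservesLimit {K} := preservesLimit_of_iso_diagram _ (diagramIsoCospan K).symm

/-- The image of an étale covering family of the small étale site generates a covering sieve of the
big site of spaces over `X`. -/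
theorem generate_map_bigF_mem {E : EtOver Y.obj} (R : Presieve E) (hR : R ∈ etPre Y.obj E) :
    Sieve.generate (R.map (bigF f)) ∈ spacesTopOver IsEtaleMor X ((bigF f).obj E) := by
  obtain ⟨ι, V, g, rfl⟩ := R.exists_eq_ofArrows
  rw [ofArrows_mem_etPre_iff] at hR
  rw [GrothendieckTopology.mem_over_iff, Sieve.overEquiv_generate]
  have hmem : Presieve.ofArrows (fun i => (ofScheme S).obj (V i).obj.left)
      (fun i => (ofScheme S).map (g i).hom.left) ∈
        spacesPre S IsEtaleMor ((ofScheme S).obj E.obj.left) := by
    rw [mem_spacesPre_iff]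
    constructor
    · rintro _ _ ⟨i⟩
      exact (isEtaleMor_yon_map_iff _).2 (EtOver.etale_left (g i))
    · intro x
      obtain ⟨e, rfl⟩ := ofScheme_surjective E.obj.left x
      obtain ⟨i, v, hv⟩ := hR e
      refine ⟨_, _, ⟨i⟩, Points.ofScheme _ v, ?_⟩
      change Points.map ((yon S).map (g i).hom.left) _ = _
      rw [← Points.ofPt_eq_map_ofScheme, ← Category.comp_id ((yon S).map (g i).hom.left),
        ofPt_yon_map_comp, hv]
  refine (spacesTop S IsEtaleMor).superset_covering ?_
    (Precoverage.generate_mem_toGrothendieck hmem)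
  rw [Sieve.generate_le_iff]
  rintro _ _ ⟨i⟩
  apply Sieve.le_generate
  exact ⟨(bigF f).obj (V i), (bigF f).map (g i), 𝟙 _, Presieve.map_map ⟨i⟩, (Category.id_comp _).symm⟩

theorem bigF_isContinuous :
    (bigF f).IsContinuous (etTop Y.obj) (spacesTopOver IsEtaleMor X) where
  op_comp_isSheaf_of_types := fun ⟨G, H⟩ => by
    rw [isSheaf_iff_isSheaf_of_type] at H
    unfold etTop
    rw [← Precoverage.toGrothendieck_toCoverage, Presieve.isSheaf_coverage]
    intro E R hR
    rw [Presieve.IsSheafFor.comp_iff_of_preservesPairwisePullbacks, Presieve.isSheafFor_iff_generate]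
    exact H _ (generate_map_bigF_mem f R hR)

end Groth.Agent.H3.BigSmall
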