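import Mathlib
import Groth.Agent.Lib.Helper3.AlgSpCov.Covers

set_option autoImplicit false
set_option linter.overlappingInstances false
set_option linter.unusedSectionVars false

universe u

open CategoryTheory CategoryTheory.Limits AlgebraicGeometry MorphismProperty Opposite Topology

namespace Groth.Agent.H3.AlgSpCov

open _root_.AlgSp Groth.Agent.H5.AlgSp Groth.Agent.H5.EtSrc

variable {S : Scheme.{u}}

theorem isFpqcCover_iff_of_chart (X : Space S) {ι : Type u}
    (Xi : ι → Space S) (g : ∀ i, Xi i ⟶ X) {U : Over S} (p : (yon S).obj U ⟶ X.obj)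
    (hp : RepWith @Etale p) (hps : RepWith @Surjective p)
    (Ui : ι → Space S) (q : ∀ i, (Ui i).obj ⟶ (yon S).obj U) (p' : ∀ i, Ui i ⟶ Xi i)
    (sq : ∀ i, IsPullback (q i) (p' i).hom p (g i).hom) :
    IsFpqcCover (fun i => (Xi i).obj) (fun i => (g i).hom) ↔
      IsFpqcCover (fun i => (Ui i).obj) q := by
  constructor
  · intro h
    exact isFpqcCover_of_isPullback X.property (IsAlgSpace.yon_obj U) p _
      (fun i => (Xi i).property) _ _ q (fun i => (p' i).hom) sq h
  · intro h
    have hpcov : IsFppfCover (fun _ : PUnit.{u + 1} => (yon S).obj U) (fun _ => p) :=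
      ⟨fun _ => ⟨locP_of_repWith etale_le_flat (Groth.Agent.H5.AlgSp.repWith_mono etale_le_flat hp),
        locP_of_repWith etale_le_lfp (Groth.Agent.H5.AlgSp.repWith_mono etale_le_lfp hp)⟩,
        fun x => ⟨PUnit.unit, points_map_surjective_of_repWith hps x⟩⟩
    have hpq := isFpqcCover_of_isFppfCover X.property _ (fun _ => IsAlgSpace.yon_obj U) _ hpcov
    have hbig := isFpqcCover_sigma X.property _ (fun _ => IsAlgSpace.yon_obj U) _
      (fun _ : PUnit.{u + 1} => ι) (fun _ i => (Ui i).obj) (fun _ i => (Ui i).property)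
      (fun _ i => q i) hpq (fun _ => h)
    refine ⟨fun i => ?_, fun Z hZ k => ?_⟩
    · exact locP_of_baseChange_etale_surjective etale_le_flat (sq i).flip (Ui i).property
        (IsAlgSpace.yon_obj U) hp hps (h.1 i)
    · obtain ⟨m, W, c, haff, hflat, hsurj, hl⟩ := hbig.2 Z hZ k
      refine ⟨m, W, c, haff, hflat, hsurj, fun j => ?_⟩
      obtain ⟨r, l, hl⟩ := hl j
      refine ⟨r.2, l ≫ (p' r.2).hom, ?_⟩
      rw [Category.assoc, ← (sq r.2).w]
      exact hl

end Groth.Agent.H3.AlgSpCov
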