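import Groth.Agent.Lib.Helper3.AlgSpCov.IsoBase
import Groth.Agent.Lib.Helper5.Descent.SepLQFFam
import Groth.Agent.Lib.Helper5.Descent.ImmersionDescent
import Groth.Agent.Lib.Helper5.AlgSp.ZarCoverRep
import Mathlib

/-!
# Immersions of algebraic spaces are fppf local on the base
-/

set_option autoImplicit false

universe u

open CategoryTheory CategoryTheory.Limits AlgebraicGeometry Opposite

namespace Groth.Agent.H3.AlgSpCov

open _root_.AlgSp Groth.Agent.H5.AlgSp Groth.Agent.H5.Descent

variable {S : Scheme.{u}}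

/-- An fppf covering by algebraic spaces is jointly locally surjective. -/
theorem jointLiftSieve_mem_of_isFppfCover {Y : Sp S} (hY : IsAlgSpace Y) {ι : Type u}
    (Yi : ι → Sp S) (hYi : ∀ i, IsAlgSpace (Yi i)) (g : ∀ i, Yi i ⟶ Y) (hcov : IsFppfCover Yi g)
    (T : Over S) (ξ : (yon S).obj T ⟶ Y) : jointLiftSieve g ξ ∈ J S T := by
  obtain ⟨κ, Tk, c, hc, hl⟩ := exists_fppf_local_lift hY Yi hYi g hcov T ξ
  refine (J S).superset_covering ?_ hc
  rintro T' t ⟨T'', a, b, ⟨k⟩, rfl⟩
  obtain ⟨i, l, hl⟩ := hl k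
  exact (jointLiftSieve g ξ).downward_closed ⟨i, l, hl⟩ a

/-- Family version of descent of immersions along jointly locally surjective families. -/
theorem repWith_isImmersion_of_jointly_locallySurjective_baseChange {F G : Sp S} {f : F ⟶ G}
    {κ : Type u} {H : κ → Sp S} (b : ∀ k, H k ⟶ G)
    (hcov : ∀ (T : Over S) (ξ : (yon S).obj T ⟶ G), jointLiftSieve b ξ ∈ J S T)
    {P : κ → Sp S} {fst : ∀ k, P k ⟶ F} {snd : ∀ k, P k ⟶ H k}
    (sq : ∀ k, IsPullback (fst k) (snd k) f (b k)) (h1 : ∀ k, RepWith @IsImmersion (snd k)) :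
    RepWith @IsImmersion f := by
  apply repWith_of_openCovers @IsImmersion
  intro T g
  have key : ∀ t : T.left, ∃ (V : T.left.Opens), t ∈ V ∧
      ∃ (W : Over S) (k : W ⟶ overOpen T V) (fst' : (yon S).obj W ⟶ F),
        IsPullback fst' ((yon S).map k) f ((yon S).map (overOpenι T V) ≫ g) ∧
          IsImmersion k.left := by
    intro t
    obtain ⟨V, htV, hV, Y, c, hc1, hc2, hc3, k, τ, hτ⟩ :=
      exists_local_fppf_of_mem_J (hcov T g) t
    refine ⟨V, htV, ?_⟩
    set g' := (yon S).map (overOpenι T V) ≫ g with hg'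
    have hτ' : τ ≫ b k = (yon S).map c ≫ g' := by
      rw [hτ, Functor.map_comp, Category.assoc]
    have sqv := (h1 k).rep.isPullback τ
    set v := (h1 k).rep.snd τ with hv
    have hv1 : IsImmersion v.left := (h1 k).property_snd τ
    have big : IsPullback ((h1 k).rep.fst τ ≫ fst k) ((yon S).map v) f ((yon S).map c ≫ g') := by
      rw [← hτ']
      exact sqv.paste_horiz (sq k)
    have sqP := IsPullback.of_hasPullback f g'
    have hw : ((h1 k).rep.fst τ ≫ fst k) ≫ f = ((yon S).map v ≫ (yon S).map c) ≫ g' := by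
      rw [Category.assoc _ _ g']
      exact big.w
    have sqD : IsPullback (sqP.lift _ _ hw) ((yon S).map v) (pullback.snd f g')
        ((yon S).map c) := by
      apply IsPullback.of_right (h₁₂ := pullback.fst f g') (h₂₂ := g') _ (sqP.lift_snd _ _ _) sqP
      rw [sqP.lift_fst]
      exact big
    obtain ⟨W, w, e, hW, he⟩ := exists_descent_of_isImmersion c v (pullback.snd f g') _ sqD
    refine ⟨W, w, e.hom ≫ pullback.fst f g', ?_, hW⟩
    refine IsPullback.of_iso sqP e.symm (Iso.refl _) (Iso.refl _) (Iso.refl _) (by simp) ?_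
      (by simp) (by simp)
    rw [Iso.refl_hom, Category.comp_id, Iso.symm_hom, ← he, Iso.inv_hom_id_assoc]
  choose V hV hW using key
  exact ⟨T.left, V, fun t => ⟨t, hV t⟩, hW⟩

theorem isLocalOnBase_fppf_isImmersion :
    IsLocalOnBase (IsFppfCover (S := S)) (RepWith @IsImmersion) := by
  intro ι Y Yi g hY hYi hcov X f hX Xi p q hXi sq
  constructor
  · intro hf i
    exact MorphismProperty.of_isPullback (P := RepWith @IsImmersion) (sq i) hf
  · intro hp
    exact repWith_isImmersion_of_jointly_locallySurjective_baseChange g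
      (jointLiftSieve_mem_of_isFppfCover hY Yi hYi g hcov) sq hp

end Groth.Agent.H3.AlgSpCov
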