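import Groth.Agent.Lib.Helper3.AlgSpCov.FpqcAffineBase
import Groth.Agent.Lib.Helper5.AlgSp.LocPBasic
import Groth.Prelude.Def_AlgSpMor5
import Mathlib

/-!
# Finite locally free morphisms of algebraic spaces are fpqc local on the base
-/

set_option autoImplicit false

universe u

open CategoryTheory CategoryTheory.Limits AlgebraicGeometry Opposite

namespace Groth.Agent.H3.AlgSpCov

open _root_.AlgSp Groth.Agent.H5.AlgSp

variable {S : Scheme.{u}}

theorem isFinLocFreeMor_iff {X Y : Sp S} (f : X ⟶ Y) (hY : IsAlgSpace Y) :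
    IsFinLocFreeMor f ↔
      RepWith @IsFinite f ∧ LocP @Flat f ∧ LocP @LocallyOfFinitePresentation f := by
  constructor
  · intro hf
    have h1 : RepWith @IsFinite f := repWith_mono (fun _ _ g hg => hg.1) hf
    have h2 : RepWith @Flat f := repWith_mono (fun _ _ g hg => hg.2.1) hf
    have h3 : RepWith @LocallyOfFinitePresentation f := repWith_mono (fun _ _ g hg => hg.2.2) hf
    exact ⟨h1, locP_of_repWith etale_le_flat h2, locP_of_repWith etale_le_lfp h3⟩
  · rintro ⟨h1, h2, h3⟩
    have hrep := h1.rep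
    have hfl : RepWith @Flat f := repWith_of_locP hY hrep h2
    have hlfp : RepWith @LocallyOfFinitePresentation f := repWith_of_locP hY hrep h3
    refine ⟨hrep, fun T V g fst snd sq => ?_⟩
    exact ⟨h1.property _ _ _ sq, hfl.property _ _ _ sq, hlfp.property _ _ _ sq⟩

theorem isLocalOnBase_fpqc_isFinLocFreeMor :
    IsLocalOnBase (IsFpqcCover (S := S)) IsFinLocFreeMor :=
  isLocalOnBase_congr (fun _ _ f _ hY => (isFinLocFreeMor_iff f hY).symm)
    (isLocalOnBase_and isLocalOnBase_fpqc_repWith_isFinite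
      (isLocalOnBase_and isLocalOnBase_fpqc_flat isLocalOnBase_fpqc_lfp))

end Groth.Agent.H3.AlgSpCov
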