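import Groth.Agent.Lib.Helper3.AlgSpCov.FpqcAffineBase
import Groth.Agent.Lib.Helper3.Desc.IntegralDescent
import Mathlib

/-!
# Integral morphisms of algebraic spaces are fpqc local on the base
-/

set_option autoImplicit false

universe u

open CategoryTheory CategoryTheory.Limits AlgebraicGeometry Opposite

namespace Groth.Agent.H3.AlgSpCov

open _root_.AlgSp Groth.Agent.H5.AlgSp Groth.Agent.H3.FpqcDesc

variable {S : Scheme.{u}}

theorem isLocalOnBase_fpqc_repWith_isIntegralHom :
    IsLocalOnBase (IsFpqcCover (S := S)) (RepWith @IsIntegralHom) := by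
  refine isLocalOnBase_fpqc_repWith_of_affine @IsIntegralHom
    (fun f => f.IsIntegral) ?_ ?_ RingHom.isIntegral_respectsIso codescendsAlong_isIntegral
  · intro X Y f hf
    have : IsIntegralHom f := hf
    infer_instance
  · intro X Y f _ _
    rw [HasAffineProperty.iff_of_isAffine (P := @IsIntegralHom)]
    exact ⟨fun h => h.2, fun h => ⟨inferInstance, h⟩⟩

theorem isLocalOnBase_fpqc_isIntegralMor :
    IsLocalOnBase (IsFpqcCover (S := S)) IsIntegralMor :=
  isLocalOnBase_congr (fun _ _ _ _ _ => isIntegralMor_iff_repWith.symm)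
    isLocalOnBase_fpqc_repWith_isIntegralHom

end Groth.Agent.H3.AlgSpCov
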