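import Groth.Agent.Lib.Helper3.Desc.FpqcQuasiAffine
import Groth.Agent.Lib.Helper3.Desc.QuasiAffineSigma
import Groth.Agent.Lib.Helper3.AlgSpCov.FpqcAffineBase
import Mathlib

/-!
# Quasi-affine morphisms of algebraic spaces are fpqc local on the base (helper3)
-/

set_option autoImplicit false

universe u

open CategoryTheory CategoryTheory.Limits AlgebraicGeometry Opposite

namespace Groth.Agent.H3.AlgSpCov

open _root_.AlgSp Groth.Agent.H5.AlgSp Groth.Agent.H3.FpqcDesc Groth.Agent.H3.QASigma

variable {S : Scheme.{u}}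

theorem bcStable_isQuasiAffineMor : BCStable (IsQuasiAffineMor (S := S)) := by
  intro X Y X' Y' f g fst f' _ _ _ sq hf
  intro Z hZ k
  obtain ⟨W, i, fstW, sqW, hqa⟩ := hf hZ (k ≫ g)
  have hw : fstW ≫ f = ((yon S).map i ≫ k) ≫ g := by
    rw [Category.assoc]; exact sqW.w
  refine ⟨W, i, sq.lift fstW ((yon S).map i ≫ k) hw, ?_, hqa⟩
  apply IsPullback.of_right (h₁₂ := fst) (h₂₂ := g) _ (sq.lift_snd _ _ _) sq
  rw [sq.lift_fst]
  exact sqW

theorem fpqcLocal_isQuasiAffineMor : FpqcLocal (IsQuasiAffineMor (S := S)) := by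
  intro X Y f hX hY hloc
  intro Z hZ g
  have sqP := IsPullback.of_hasPullback f g
  have hP₀ : IsAlgSpace (pullback f g) :=
    isAlgSpace_pullback hY.diag hX (IsAlgSpace.yon_obj Z) sqP
  obtain ⟨m, W, c, hWaff, hflat, hsurj, hQ⟩ := hloc Z hZ g
  -- for each `j`, the base change to `W j` is a quasi-affine scheme
  have hex : ∀ j, ∃ (V : Over S) (i : V ⟶ W j) (l : (yon S).obj V ⟶ pullback f g),
      IsPullback l ((yon S).map i) (pullback.snd f g) ((yon S).map (c j)) ∧
        V.left.IsQuasiAffine := by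
    intro j
    obtain ⟨V, i, fstj, sqj, hqa⟩ := hQ j (hWaff j) (𝟙 _)
    have bigj : IsPullback (fstj ≫ pullback.fst f ((yon S).map (c j) ≫ g)) ((yon S).map i) f
        ((yon S).map (c j) ≫ g) := by
      have := sqj.paste_horiz (IsPullback.of_hasPullback f ((yon S).map (c j) ≫ g))
      rwa [Category.id_comp] at this
    have hw : (fstj ≫ pullback.fst f ((yon S).map (c j) ≫ g)) ≫ f =
        ((yon S).map i ≫ (yon S).map (c j)) ≫ g := by
      rw [Category.assoc _ _ g]; exact bigj.w
    refine ⟨V, i, sqP.lift _ _ hw, ?_, hqa⟩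
    apply IsPullback.of_right (h₁₂ := pullback.fst f g) (h₂₂ := g) _ (sqP.lift_snd _ _ _) sqP
    rw [sqP.lift_fst]
    exact bigj
  choose V i l sql hVqa using hex
  -- Step A
  have hA : ∀ j, RepWith @QuasiCompact (pullback.snd (pullback.snd f g) ((yon S).map (c j))) := by
    intro j
    have hqc : QuasiCompact (i j).left := by
      have : IsAffine (W j).left := hWaff j
      have : CompactSpace ↥(V j).left := (hVqa j).toCompactSpace
      exact (HasAffineProperty.iff_of_isAffine (P := @QuasiCompact)).2 this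
    rw [← (sql j).isoPullback_inv_snd]
    exact MorphismProperty.RespectsIso.precomp _ _ _
      ((repWith_yon_map_iff @QuasiCompact (i j)).2 hqc)
  -- Step B
  let W' : ULift.{u} (Fin m) → Over S := fun j => W j.down
  let c' : ∀ j, W' j ⟶ Z := fun j => c j.down
  have hσ := repWith_sigma_of_family @QuasiCompact W' c' (pullback.snd f g) (fun j => hA j.down)
  have : ∀ j : ULift.{u} (Fin m), IsAffine (W' j).left := fun j => hWaff j.down
  have hprops := sigmaDesc_props (fun j => (W' j).left) (fun j => (c' j).left)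
    (fun j => hflat j.down) (fun z => by
      obtain ⟨j, hj⟩ := hsurj z
      exact ⟨⟨j⟩, hj⟩)
  have hσaff : IsAffine (sigmaOver W').left := hprops.1
  have hσsurj : Surjective (sigmaOverDesc W' c').left := hprops.2.1
  have hσflat : Flat (sigmaOverDesc W' c').left := hprops.2.2
  set cσ := sigmaOverDesc W' c' with hcσ
  have sq1 := hσ.rep.isPullback (𝟙 ((yon S).obj (sigmaOver W')))
  set v := hσ.rep.snd (𝟙 ((yon S).obj (sigmaOver W'))) with hv
  have sqV : IsPullback (hσ.rep.fst (𝟙 ((yon S).obj (sigmaOver W'))) ≫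
      pullback.fst (pullback.snd f g) ((yon S).map cσ)) ((yon S).map v) (pullback.snd f g)
      ((yon S).map cσ) := by
    have h := sq1.paste_horiz (IsPullback.of_hasPullback (pullback.snd f g) ((yon S).map cσ))
    rwa [Category.id_comp] at h
  -- Step C: the total space is quasi-affine
  have hVσ : (hσ.rep.pullback (𝟙 ((yon S).obj (sigmaOver W')))).left.IsQuasiAffine := by
    have hlift : ∀ j : ULift.{u} (Fin m), l j.down ≫ pullback.snd f g =
        ((yon S).map (i j.down) ≫ (yon S).map (sigmaOverι W' j)) ≫ (yon S).map cσ := by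
      intro j
      rw [Category.assoc, ← Functor.map_comp (yon S) (sigmaOverι W' j), sigmaOverι_desc]
      exact (sql j.down).w
    have hex2 : ∀ j : ULift.{u} (Fin m),
        ∃ a : V j.down ⟶ hσ.rep.pullback (𝟙 ((yon S).obj (sigmaOver W'))),
          IsPullback a (i j.down) v (sigmaOverι W' j) := by
      intro j
      obtain ⟨a, ha⟩ := (yon S).map_surjective (sqV.lift (l j.down) _ (hlift j))
      refine ⟨a, ?_⟩
      apply IsPullback.of_map_of_faithful (yon S)
      rw [ha]
      apply IsPullback.of_right (h₂₂ := (yon S).map cσ) _ (sqV.lift_snd _ _ _) sqV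
      rw [sqV.lift_fst, ← Functor.map_comp, sigmaOverι_desc]
      exact sql j.down
    choose a ha using hex2
    have : ∀ j : ULift.{u} (Fin m), (V j.down).left.IsQuasiAffine := fun j => hVqa j.down
    exact isQuasiAffine_of_sigma (fun j => (W' j).left) v.left (fun j => (V j.down).left)
      (fun j => (a j).left) (fun j => (i j.down).left)
      (fun j => (ha j).map (Over.forget S))
  -- Step D
  have hZ' : IsAffine Z.left := hZ
  obtain ⟨W₀, w, e, he, hqa⟩ := exists_descent_of_isQuasiAffine_fpqc cσ v (pullback.snd f g) _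
    hP₀ sqV
  refine ⟨W₀, w, e.hom ≫ pullback.fst f g, ?_, hqa⟩
  refine IsPullback.of_iso sqP e.symm (Iso.refl _) (Iso.refl _) (Iso.refl _) (by simp) ?_
    (by simp) (by simp)
  rw [Iso.refl_hom, Category.comp_id, Iso.symm_hom, ← he, Iso.inv_hom_id_assoc]

/-- **Quasi-affine morphisms of algebraic spaces are fpqc local on the base.** -/
theorem isLocalOnBase_fpqc_isQuasiAffineMor :
    IsLocalOnBase (IsFpqcCover (S := S)) IsQuasiAffineMor :=
  isLocalOnBase_fpqc_of bcStable_isQuasiAffineMor fpqcLocal_isQuasiAffineMor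

end Groth.Agent.H3.AlgSpCov
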