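import Groth.Agent.Lib.Helper3.AlgSpCov.FpqcQuasiAffineBase
import Groth.Agent.Lib.Helper3.Desc.QcImmDescent
import Mathlib

/-!
# Quasi-affine representable properties are fpqc local on the base; quasi-compact immersions
(helper3)
-/

set_option autoImplicit false

universe u

open CategoryTheory CategoryTheory.Limits AlgebraicGeometry Opposite

namespace Groth.Agent.H3.AlgSpCov

open _root_.AlgSp Groth.Agent.H5.AlgSp Groth.Agent.H3.FpqcDesc Groth.Agent.H3.QASigma

variable {S : Scheme.{u}}

/-- Properties of quasi-affine morphisms of schemes which descend along fpqc coverings give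
properties of representable morphisms of algebraic spaces which are fpqc local on the base. -/
theorem fpqcLocal_repWith_of_quasiAffine (P : MorphismProperty Scheme.{u})
    [P.IsStableUnderBaseChange] [IsZariskiLocalAtTarget P]
    [P.DescendsAlong (@Surjective ⊓ @Flat ⊓ @QuasiCompact)]
    (hP : ∀ {X Y : Scheme.{u}} (f : X ⟶ Y), P f → IsAffine Y → X.IsQuasiAffine) :
    FpqcLocal (RepWith P (S := S)) := by
  intro X Y f hX hY hloc
  apply repWith_of_forall_affine' P
  intro Z hZ g P₀ fst snd sqP
  have hP₀ : IsAlgSpace P₀ := isAlgSpace_pullback hY.diag hX (IsAlgSpace.yon_obj Z) sqP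
  obtain ⟨m, W, c, hWaff, hflat, hsurj, hQ⟩ := hloc Z hZ g
  -- Step A
  have hA : ∀ j, RepWith P (pullback.snd snd ((yon S).map (c j))) := by
    intro j
    have big : IsPullback (pullback.fst snd ((yon S).map (c j)) ≫ fst)
        (pullback.snd snd ((yon S).map (c j))) f ((yon S).map (c j) ≫ g) :=
      (IsPullback.of_hasPullback snd ((yon S).map (c j))).paste_horiz sqP
    rw [← big.isoIsPullback_hom_snd _ _ (IsPullback.of_hasPullback f ((yon S).map (c j) ≫ g))]
    exact MorphismProperty.RespectsIso.precomp _ _ _ (hQ j)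
  -- Step B
  let W' : ULift.{u} (Fin m) → Over S := fun j => W j.down
  let c' : ∀ j, W' j ⟶ Z := fun j => c j.down
  have hσ := repWith_sigma_of_family P W' c' snd (fun j => hA j.down)
  have : ∀ j : ULift.{u} (Fin m), IsAffine (W' j).left := fun j => hWaff j.down
  have hprops := sigmaDesc_props (fun j => (W' j).left) (fun j => (c' j).left)
    (fun j => hflat j.down) (fun z => by
      obtain ⟨j, hj⟩ := hsurj z
      exact ⟨⟨j⟩, hj⟩)
  have hσaff : IsAffine (sigmaOver W').left := hprops.1
  have hσsurj : Surjective (sigmaOverDesc W' c').left := hprops.2.1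
  have hσflat : Flat (sigmaOverDesc W' c').left := hprops.2.2
  -- Step C
  set cσ := sigmaOverDesc W' c' with hcσ
  have sq1 := hσ.rep.isPullback (𝟙 ((yon S).obj (sigmaOver W')))
  set v := hσ.rep.snd (𝟙 ((yon S).obj (sigmaOver W'))) with hv
  have hPv : P v.left := hσ.property_snd _
  have hW₁ : (hσ.rep.pullback (𝟙 ((yon S).obj (sigmaOver W')))).left.IsQuasiAffine :=
    hP v.left hPv hσaff
  have sq : IsPullback (hσ.rep.fst (𝟙 ((yon S).obj (sigmaOver W'))) ≫
      pullback.fst snd ((yon S).map cσ)) ((yon S).map v) snd ((yon S).map cσ) := by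
    have h := sq1.paste_horiz (IsPullback.of_hasPullback snd ((yon S).map cσ))
    rwa [Category.id_comp] at h
  -- Step D
  have hZ' : IsAffine Z.left := hZ
  obtain ⟨W₀, w, e, he, hqa⟩ := exists_descent_of_isQuasiAffine_fpqc cσ v snd _ hP₀ sq
  -- Step E
  have hPw : P w.left := by
    obtain ⟨k, hk⟩ := (yon S).map_surjective ((hσ.rep.fst (𝟙 ((yon S).obj (sigmaOver W'))) ≫
      pullback.fst snd ((yon S).map cσ)) ≫ e.inv)
    have sqY : IsPullback ((yon S).map k) ((yon S).map v) ((yon S).map w) ((yon S).map cσ) := by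
      rw [hk, ← he]
      exact IsPullback.of_iso sq (Iso.refl _) e.symm (Iso.refl _) (Iso.refl _)
        (by simp) (by simp) (by simp) (by simp)
    have sqO : IsPullback k v w cσ := IsPullback.of_map_of_faithful (yon S) sqY
    have sqS : IsPullback k.left v.left w.left cσ.left := sqO.map (Over.forget S)
    have hqc : QuasiCompact cσ.left := by
      have : IsAffineHom cσ.left := isAffineHom_of_isAffine _
      infer_instance
    exact MorphismProperty.of_isPullback_of_descendsAlong
      (Q := (@Surjective ⊓ @Flat ⊓ @QuasiCompact : MorphismProperty Scheme.{u})) sqS.flip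
      ⟨⟨hσsurj, hσflat⟩, hqc⟩ hPv
  -- Step F
  have hsnd : snd = e.inv ≫ (yon S).map w := by
    rw [← he, Iso.inv_hom_id_assoc]
  rw [hsnd]
  exact MorphismProperty.RespectsIso.precomp _ _ _ ((repWith_yon_map_iff P w).2 hPw)

theorem isLocalOnBase_fpqc_repWith_of_quasiAffine (P : MorphismProperty Scheme.{u})
    [P.IsStableUnderBaseChange] [IsZariskiLocalAtTarget P]
    [P.DescendsAlong (@Surjective ⊓ @Flat ⊓ @QuasiCompact)]
    (hP : ∀ {X Y : Scheme.{u}} (f : X ⟶ Y), P f → IsAffine Y → X.IsQuasiAffine) :
    IsLocalOnBase (IsFpqcCover (S := S)) (RepWith P) :=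
  isLocalOnBase_fpqc_of (bcStable_repWith P) (fpqcLocal_repWith_of_quasiAffine P hP)

/-- **Quasi-compact immersions of algebraic spaces are fpqc local on the base.** -/
theorem isLocalOnBase_fpqc_repWith_isImmersion_inf_quasiCompact :
    IsLocalOnBase (IsFpqcCover (S := S)) (RepWith (@IsImmersion ⊓ @QuasiCompact)) := by
  refine isLocalOnBase_fpqc_repWith_of_quasiAffine (@IsImmersion ⊓ @QuasiCompact) ?_
  intro X Y f hf hY
  have : IsImmersion f := hf.1
  have : QuasiCompact f := hf.2
  have : CompactSpace ↥X := QuasiCompact.compactSpace_of_compactSpace f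
  exact Scheme.IsQuasiAffine.of_isImmersion f

end Groth.Agent.H3.AlgSpCov
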