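import Groth.Agent.Lib.Helper3.AlgSpCov.FpqcAffineBase
import Groth.Agent.Lib.Helper3.AlgSpCov.RepBase
import Groth.Prelude.Def_AlgSpInf
import Mathlib

/-!
# Thickenings of algebraic spaces are fpqc local on the base
-/

set_option autoImplicit false

universe u

open CategoryTheory CategoryTheory.Limits AlgebraicGeometry Opposite

namespace Groth.Agent.H3.AlgSpCov

open _root_.AlgSp Groth.Agent.H5.AlgSp

variable {S : Scheme.{u}}

theorem isLocalOnBase_fpqc_isThickMor :
    IsLocalOnBase (IsFpqcCover (S := S)) IsThickMor := by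
  intro ι Y Yi g hY hYi hcov X f hX Xi p q hXi sq
  constructor
  · intro hf i
    exact MorphismProperty.of_isPullback (P := RepWith thick) (sq i) hf
  · intro hp
    have h1 : RepWith @IsClosedImmersion f :=
      (isLocalOnBase_fpqc_repWith_isClosedImmersion Yi g hY hYi hcov f hX Xi p q hXi sq).2
        (fun i => repWith_mono (fun _ _ k hk => hk.1) (hp i))
    have h2 : RepWith @Surjective f :=
      repWith_of_isFpqcCover f h1.rep Yi g hcov Xi p q sq
        (fun i => repWith_mono (fun _ _ k hk => hk.2) (hp i))
    refine ⟨h1.rep, fun T V ξ fst snd sqV => ?_⟩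
    exact ⟨h1.property _ _ _ sqV, h2.property _ _ _ sqV⟩

end Groth.Agent.H3.AlgSpCov
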