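import Mathlib
import Groth.Agent.Lib.Helper3.AlgSpCov.EtSmoothST
import Groth.Agent.Lib.Helper5.AlgSp.LocalRep

set_option autoImplicit false
set_option linter.overlappingInstances false
set_option linter.unusedSectionVars false

universe u

open CategoryTheory CategoryTheory.Limits AlgebraicGeometry MorphismProperty Opposite Topology

namespace Groth.Agent.H3.AlgSpCov

open _root_.AlgSp Groth.Agent.H5.AlgSp Groth.Agent.H5.EtSrc

variable {S : Scheme.{u}}

/-- A class of "covering morphisms" of algebraic spaces. -/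
structure CovClass (𝒞 : MorphismProperty (Sp S)) : Prop where
  of_openImm : ∀ ⦃X Y : Sp S⦄, IsAlgSpace X → IsAlgSpace Y → ∀ (j : X ⟶ Y),
    RepWith @IsOpenImmersion j → 𝒞 j
  comp : ∀ ⦃X Y Z : Sp S⦄, IsAlgSpace X → IsAlgSpace Y → IsAlgSpace Z → ∀ (f : X ⟶ Y)
    (g : Y ⟶ Z), 𝒞 f → 𝒞 g → 𝒞 (f ≫ g)
  cancel : ∀ ⦃X Y Z : Sp S⦄, IsAlgSpace X → IsAlgSpace Y → IsAlgSpace Z → ∀ (f : X ⟶ Y)
    (j : Y ⟶ Z), RepWith @IsOpenImmersion j → 𝒞 (f ≫ j) → 𝒞 f
  isOpenMap : ∀ ⦃X Y : Sp S⦄, IsAlgSpace X → IsAlgSpace Y → ∀ (f : X ⟶ Y), 𝒞 f →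
    IsOpenMap (Points.map f)

lemma mono_of_isOpenImmersion {X Y : Sp S} {j : X ⟶ Y} (hj : RepWith @IsOpenImmersion j) :
    Mono j :=
  mono_of_repWith LocalRep.isOpenImmersion_le_mono hj

lemma repWith_isOpenImmersion_id (X : Sp S) : RepWith @IsOpenImmersion (𝟙 X) :=
  repWith_mono (fun _ _ φ hφ => by
    have : IsIso φ := hφ
    exact (inferInstance : IsOpenImmersion φ)) (repWith_isomorphisms_of_isIso (𝟙 X))

/-- `P` holds for the restriction of `f` over every open subspace of `Y` with set of points `V`. -/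
def GoodOpen (P : MorphismProperty (Sp S)) {X Y : Space S} (f : X ⟶ Y)
    (V : TopologicalSpace.Opens (Points Y.obj)) : Prop :=
  ∀ (W₁ X₁ : Space S) (j₁ : W₁ ⟶ Y) (j₁' : X₁ ⟶ X) (f₁ : X₁ ⟶ W₁),
    RepWith @IsOpenImmersion j₁.hom → Set.range (Points.map j₁.hom) = (V : Set (Points Y.obj)) →
    IsPullback j₁'.hom f₁.hom f.hom j₁.hom → P f₁.hom

section

variable {𝒞 P : MorphismProperty (Sp S)} (h𝒞 : CovClass 𝒞)
  (hP : IsLocalOnBase (fun _ _ Y g => IsCover 𝒞 Y g) P)

include h𝒞 hP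

/-- `P` descends along a single surjective covering morphism. -/
lemma prop_of_single_cover {X Y X' Y' : Sp S} (hX : IsAlgSpace X) (hY : IsAlgSpace Y)
    (hX' : IsAlgSpace X') (hY' : IsAlgSpace Y') (f : X ⟶ Y) (g : Y' ⟶ Y) (g' : X' ⟶ X)
    (f' : X' ⟶ Y') (sq : IsPullback g' f' f g) (hg : 𝒞 g)
    (hs : Function.Surjective (Points.map g)) (hf' : P f') : P f :=
  (hP (fun _ : PUnit.{u + 1} => Y') (fun _ => g) hY (fun _ => hY')
    ⟨fun _ => hg, fun y => ⟨PUnit.unit, hs y⟩⟩ f hX (fun _ => X') (fun _ => f') (fun _ => g')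
    (fun _ => hX') (fun _ => sq)).2 fun _ => hf'

/-- `P` is stable under base change along covering morphisms. -/
lemma prop_baseChange {X Y X' Y' : Sp S} (hX : IsAlgSpace X) (hY : IsAlgSpace Y)
    (hX' : IsAlgSpace X') (hY' : IsAlgSpace Y') (f : X ⟶ Y) (g : Y' ⟶ Y) (g' : X' ⟶ X)
    (f' : X' ⟶ Y') (sq : IsPullback g' f' f g) (hg : 𝒞 g) (hf : P f) : P f' := by
  have hcov : IsCover 𝒞 (pairFam Y' Y) (pairMor g (𝟙 Y)) :=
    ⟨fun b => match b with
      | ⟨true⟩ => hg
      | ⟨false⟩ => h𝒞.of_openImm hY hY _ (repWith_isOpenImmersion_id Y),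
      fun y => ⟨⟨false⟩, y, Points.map_id y⟩⟩
  exact (hP _ _ hY (pairFam_isAlgSpace hY' hY) hcov f hX (pairFam X' X) (pairMap f' f)
    (pairMor g' (𝟙 X)) (pairFam_isAlgSpace hX' hX) (fun b => match b with
      | ⟨true⟩ => sq
      | ⟨false⟩ => IsPullback.id_horiz f)).1 hf ⟨true⟩

/-- Property (C): if the base change of `f` along a covering morphism `g` has `P`, then the
restriction of `f` over the (open) image of `g` has `P`. -/
lemma goodOpen_range {X Y Y' X' : Space S} (f : X ⟶ Y) (g : Y' ⟶ Y) (g' : X' ⟶ X)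
    (f' : X' ⟶ Y') (hg : 𝒞 g.hom) (sq : IsPullback g'.hom f'.hom f.hom g.hom) (hf' : P f'.hom)
    (V : TopologicalSpace.Opens (Points Y.obj))
    (hV : (V : Set (Points Y.obj)) = Set.range (Points.map g.hom)) : GoodOpen P f V := by
  intro W₁ X₁ j₁ j₁' f₁ hj₁ hr₁ sq₁
  have hm : Mono j₁.hom := mono_of_isOpenImmersion hj₁
  obtain ⟨g₁, hg₁⟩ := (factors_through_open_iff j₁.hom hj₁ g.hom).2 (by rw [hr₁, hV])
  have hg₁𝒞 : 𝒞 g₁ := h𝒞.cancel Y'.property W₁.property Y.property g₁ j₁.hom hj₁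
    (by rw [hg₁]; exact hg)
  have hs : Function.Surjective (Points.map g₁) := by
    intro w
    have : Points.map j₁.hom w ∈ Set.range (Points.map g.hom) := by
      rw [← hV, ← hr₁]; exact ⟨w, rfl⟩
    obtain ⟨y', hy'⟩ := this
    refine ⟨y', points_map_injective_of_mono j₁.hom ?_⟩
    rw [← Points.map_comp, hg₁, hy']
  have hw : g'.hom ≫ f.hom = (f'.hom ≫ g₁) ≫ j₁.hom := by
    rw [Category.assoc, hg₁]; exact sq.w
  have big : IsPullback (sq₁.lift g'.hom (f'.hom ≫ g₁) hw ≫ j₁'.hom) f'.hom f.hom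
      (g₁ ≫ j₁.hom) := by
    rw [sq₁.lift_fst, hg₁]; exact sq
  have left : IsPullback (sq₁.lift g'.hom (f'.hom ≫ g₁) hw) f'.hom f₁.hom g₁ :=
    IsPullback.of_right big (sq₁.lift_snd _ _ hw) sq₁
  exact prop_of_single_cover h𝒞 hP X₁.property W₁.property X'.property Y'.property f₁.hom g₁ _
    f'.hom left hg₁𝒞 hs hf'

/-- Property (A): the union of all good opens is good. -/
lemma goodOpen_sSup {X Y : Space S} (f : X ⟶ Y) :
    GoodOpen P f (sSup {V | GoodOpen P f V}) := by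
  intro W₀ X₀ j₀ j₀' f₀ hj₀ hr₀ sq₀
  have hm : Mono j₀.hom := mono_of_isOpenImmersion hj₀
  obtain ⟨T₀, p₀, hpe, hps⟩ := W₀.property.atlas
  have key : ∀ t : ↥T₀.left, ∃ V : TopologicalSpace.Opens (Points Y.obj),
      GoodOpen P f V ∧ Points.map j₀.hom (Points.ofPt p₀ t) ∈ V := by
    intro t
    have : Points.map j₀.hom (Points.ofPt p₀ t) ∈
        (sSup {V | GoodOpen P f V} : TopologicalSpace.Opens (Points Y.obj)) := by
      rw [← SetLike.mem_coe, ← hr₀]; exact ⟨_, rfl⟩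
    rw [TopologicalSpace.Opens.mem_sSup] at this
    obtain ⟨V, hV, hmem⟩ := this
    exact ⟨V, hV, hmem⟩
  choose V hVgood hVmem using key
  have hfac : ∀ t, ∃ k : openSub Y.obj (V t : Set (Points Y.obj)) ⟶ W₀.obj,
      k ≫ j₀.hom = openSubι Y.obj (V t : Set (Points Y.obj)) := by
    intro t
    refine (factors_through_open_iff j₀.hom hj₀ _).2 ?_
    rw [range_points_map_openSubι, hr₀]
    exact fun y hy => TopologicalSpace.Opens.mem_sSup.2 ⟨V t, hVgood t, hy⟩
  choose k hk using hfac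
  have hVt : ∀ t, IsAlgSpace (openSub Y.obj (V t : Set (Points Y.obj))) :=
    fun t => isAlgSpace_openSub Y.property (V t).2
  have hkopen : ∀ t, RepWith @IsOpenImmersion (k t) := fun t =>
    repWith_of_comp_mono j₀.hom (by rw [hk t]; exact repWith_openSubι (V t).2)
  refine (hP (fun t => openSub Y.obj (V t : Set (Points Y.obj))) k W₀.property hVt
    ⟨fun t => h𝒞.of_openImm (hVt t) W₀.property _ (hkopen t), fun w => ?_⟩ f₀.hom X₀.property
    (fun t => pullback f₀.hom (k t)) (fun t => pullback.snd _ _) (fun t => pullback.fst _ _)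
    (fun t => isAlgSpace_pullback W₀.property.diag X₀.property (hVt t)
      (IsPullback.of_hasPullback _ _)) (fun t => IsPullback.of_hasPullback _ _)).2 fun t => ?_
  · obtain ⟨t, rfl⟩ := ofPt_surjective_of_repWith hps w
    have : Points.map j₀.hom (Points.ofPt p₀ t) ∈
        Set.range (Points.map (openSubι Y.obj (V t : Set (Points Y.obj)))) := by
      rw [range_points_map_openSubι]; exact hVmem t
    obtain ⟨z, hz⟩ := this
    refine ⟨t, z, points_map_injective_of_mono j₀.hom ?_⟩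
    rw [← Points.map_comp, hk t, hz]
  · have big : IsPullback (pullback.fst f₀.hom (k t) ≫ j₀'.hom) (pullback.snd f₀.hom (k t))
        f.hom (k t ≫ j₀.hom) := (IsPullback.of_hasPullback f₀.hom (k t)).paste_horiz sq₀
    rw [hk t] at big
    exact hVgood t ⟨_, hVt t⟩ ⟨_, isAlgSpace_pullback W₀.property.diag X₀.property (hVt t)
      (IsPullback.of_hasPullback _ _)⟩
      (ObjectProperty.homMk (openSubι Y.obj (V t : Set (Points Y.obj))))
      (ObjectProperty.homMk (pullback.fst f₀.hom (k t) ≫ j₀'.hom))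
      (ObjectProperty.homMk (pullback.snd f₀.hom (k t))) (repWith_openSubι (V t).2)
      (range_points_map_openSubι _) big

/-- Property (D). -/
lemma eq_preimage_of_largest {X Y Y' X' : Space S} (f : X ⟶ Y) (g : Y' ⟶ Y) (g' : X' ⟶ X)
    (f' : X' ⟶ Y') (hg : 𝒞 g.hom) (sq : IsPullback g'.hom f'.hom f.hom g.hom)
    (W' : TopologicalSpace.Opens (Points Y'.obj)) (hA : GoodOpen P f' W')
    (hB : ∀ V' : TopologicalSpace.Opens (Points Y'.obj), GoodOpen P f' V' → V' ≤ W') :
    (W' : Set (Points Y'.obj)) = Points.map g.hom ⁻¹'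
      ((sSup {V | GoodOpen P f V} : TopologicalSpace.Opens (Points Y.obj)) :
        Set (Points Y.obj)) := by
  obtain ⟨W, hW⟩ : ∃ W : TopologicalSpace.Opens (Points Y.obj), W = sSup {V | GoodOpen P f V} :=
    ⟨_, rfl⟩
  rw [← hW]
  apply Set.Subset.antisymm
  · have hj₂ : RepWith @IsOpenImmersion (openSubι Y'.obj (W' : Set (Points Y'.obj))) :=
      repWith_openSubι (F := Y'.obj) W'.2
    have hW₂ : IsAlgSpace (openSub Y'.obj (W' : Set (Points Y'.obj))) :=
      isAlgSpace_openSub Y'.property W'.2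
    have sq₂ := IsPullback.of_hasPullback f'.hom (openSubι Y'.obj (W' : Set (Points Y'.obj)))
    have hX₂ : IsAlgSpace (pullback f'.hom (openSubι Y'.obj (W' : Set (Points Y'.obj)))) :=
      isAlgSpace_pullback Y'.property.diag X'.property hW₂ sq₂
    have hP₂ : P (pullback.snd f'.hom (openSubι Y'.obj (W' : Set (Points Y'.obj)))) :=
      hA ⟨_, hW₂⟩ ⟨_, hX₂⟩ (ObjectProperty.homMk (openSubι Y'.obj (W' : Set (Points Y'.obj))))
        (ObjectProperty.homMk (pullback.fst _ _)) (ObjectProperty.homMk (pullback.snd _ _)) hj₂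
        (range_points_map_openSubι _) sq₂
    have h𝒞' : 𝒞 (openSubι Y'.obj (W' : Set (Points Y'.obj)) ≫ g.hom) :=
      h𝒞.comp hW₂ Y'.property Y.property _ _ (h𝒞.of_openImm hW₂ Y'.property _ hj₂) hg
    have big := sq₂.paste_horiz sq
    have hopen : IsOpen (Set.range (Points.map
        (openSubι Y'.obj (W' : Set (Points Y'.obj)) ≫ g.hom))) :=
      (h𝒞.isOpenMap hW₂ Y.property _ h𝒞').isOpen_range
    have hgood : GoodOpen P f ⟨_, hopen⟩ :=
      goodOpen_range h𝒞 hP f
        (ObjectProperty.homMk (openSubι Y'.obj (W' : Set (Points Y'.obj)) ≫ g.hom) :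
          (⟨_, hW₂⟩ : Space S) ⟶ Y)
        (ObjectProperty.homMk (pullback.fst f'.hom _ ≫ g'.hom) : (⟨_, hX₂⟩ : Space S) ⟶ X)
        (ObjectProperty.homMk (pullback.snd f'.hom _)) h𝒞' big hP₂ ⟨_, hopen⟩ rfl
    intro y' hy'
    have : Points.map g.hom y' ∈ Set.range (Points.map
        (openSubι Y'.obj (W' : Set (Points Y'.obj)) ≫ g.hom)) := by
      obtain ⟨z, hz⟩ : y' ∈ Set.range (Points.map
          (openSubι Y'.obj (W' : Set (Points Y'.obj)))) := by
        rw [range_points_map_openSubι]; exact hy'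
      exact ⟨z, by rw [Points.map_comp, hz]⟩
    rw [hW]
    exact (le_sSup hgood :
      (⟨_, hopen⟩ : TopologicalSpace.Opens (Points Y.obj)) ≤ sSup {V | GoodOpen P f V}) this
  · have hopen : IsOpen (Points.map g.hom ⁻¹' (W : Set (Points Y.obj))) :=
      W.2.preimage (Points.continuous_map _)
    refine hB ⟨_, hopen⟩ ?_
    intro W₂ X₂ j₂ j₂' f₂ hj₂ hr₂ sq₂
    have hj₀ : RepWith @IsOpenImmersion (openSubι Y.obj (W : Set (Points Y.obj))) :=
      repWith_openSubι (F := Y.obj) W.2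
    have hW₀ : IsAlgSpace (openSub Y.obj (W : Set (Points Y.obj))) :=
      isAlgSpace_openSub Y.property W.2
    obtain ⟨g₂, hg₂⟩ := (factors_through_open_iff (openSubι Y.obj (W : Set (Points Y.obj))) hj₀
      (j₂.hom ≫ g.hom)).2 (by
        rw [range_points_map_openSubι]
        rintro _ ⟨z, rfl⟩
        rw [Points.map_comp]
        have : Points.map j₂.hom z ∈ Points.map g.hom ⁻¹' (W : Set (Points Y.obj)) := by
          have h0 : Points.map j₂.hom z ∈ Set.range (Points.map j₂.hom) := ⟨z, rfl⟩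
          rw [hr₂] at h0
          exact h0
        exact this)
    have h𝒞₂ : 𝒞 g₂ := h𝒞.cancel W₂.property hW₀ Y.property g₂ _ hj₀ (by
      rw [hg₂]
      exact h𝒞.comp W₂.property Y'.property Y.property _ _
        (h𝒞.of_openImm W₂.property Y'.property _ hj₂) hg)
    have sq₀ := IsPullback.of_hasPullback f.hom (openSubι Y.obj (W : Set (Points Y.obj)))
    have hX₀ : IsAlgSpace (pullback f.hom (openSubι Y.obj (W : Set (Points Y.obj)))) :=
      isAlgSpace_pullback Y.property.diag X.property hW₀ sq₀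
    have hP₀ : P (pullback.snd f.hom (openSubι Y.obj (W : Set (Points Y.obj)))) := by
      have := goodOpen_sSup h𝒞 hP f
      rw [← hW] at this
      exact this ⟨_, hW₀⟩ ⟨_, hX₀⟩ (ObjectProperty.homMk (openSubι Y.obj (W : Set (Points Y.obj))))
        (ObjectProperty.homMk (pullback.fst _ _)) (ObjectProperty.homMk (pullback.snd _ _)) hj₀
        (range_points_map_openSubι _) sq₀
    have big : IsPullback (j₂'.hom ≫ g'.hom) f₂.hom f.hom (j₂.hom ≫ g.hom) :=
      sq₂.paste_horiz sq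
    have hw : (j₂'.hom ≫ g'.hom) ≫ f.hom =
        (f₂.hom ≫ g₂) ≫ openSubι Y.obj (W : Set (Points Y.obj)) := by
      have := big.w
      rw [← hg₂, ← Category.assoc] at this
      exact this
    have left : IsPullback (sq₀.lift _ _ hw) f₂.hom
        (pullback.snd f.hom (openSubι Y.obj (W : Set (Points Y.obj)))) g₂ := by
      refine IsPullback.of_right ?_ (sq₀.lift_snd _ _ hw) sq₀
      rw [sq₀.lift_fst, hg₂]; exact big
    exact prop_baseChange h𝒞 hP hX₀ hW₀ X₂.property W₂.property _ g₂ _ f₂.hom left h𝒞₂ hP₀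

/-- The largest open over which `f` has `P`, with its basic properties. -/
theorem exists_largest_open {X Y : Space S} (f : X ⟶ Y) :
    ∃ W : TopologicalSpace.Opens (Points Y.obj),
      GoodOpen P f W ∧
      (∀ V : TopologicalSpace.Opens (Points Y.obj), GoodOpen P f V → V ≤ W) ∧
      (∀ (Y' X' : Space S) (g : Y' ⟶ Y) (g' : X' ⟶ X) (f' : X' ⟶ Y'),
        𝒞 g.hom → IsPullback g'.hom f'.hom f.hom g.hom → P f'.hom →
        Set.range (Points.map g.hom) ⊆ (W : Set (Points Y.obj))) ∧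
      (∀ (Y' X' : Space S) (g : Y' ⟶ Y) (g' : X' ⟶ X) (f' : X' ⟶ Y'),
        𝒞 g.hom → IsPullback g'.hom f'.hom f.hom g.hom →
        ∀ W' : TopologicalSpace.Opens (Points Y'.obj), GoodOpen P f' W' →
          (∀ V' : TopologicalSpace.Opens (Points Y'.obj), GoodOpen P f' V' → V' ≤ W') →
          (W' : Set (Points Y'.obj)) = Points.map g.hom ⁻¹' (W : Set (Points Y.obj))) := by
  refine ⟨sSup {V | GoodOpen P f V}, goodOpen_sSup h𝒞 hP f, fun V hV => le_sSup hV, ?_, ?_⟩
  · intro Y' X' g g' f' hg sq hf'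
    have hopen : IsOpen (Set.range (Points.map g.hom)) :=
      (h𝒞.isOpenMap Y'.property Y.property _ hg).isOpen_range
    exact (le_sSup (goodOpen_range h𝒞 hP f g g' f' hg sq hf' ⟨_, hopen⟩ rfl) :
      (⟨_, hopen⟩ : TopologicalSpace.Opens (Points Y.obj)) ≤ sSup {V | GoodOpen P f V})
  · intro Y' X' g g' f' hg sq W' hA hB
    exact eq_preimage_of_largest h𝒞 hP f g g' f' hg sq W' hA hB

end

end Groth.Agent.H3.AlgSpCov
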