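import Mathlib
import Groth.Agent.Lib.Helper3.AlgSpCov.LargestOpen
import Groth.Agent.Lib.Helper8.AlgSp.InvMax

set_option autoImplicit false
set_option linter.overlappingInstances false
set_option linter.unusedSectionVars false

universe u

open CategoryTheory CategoryTheory.Limits AlgebraicGeometry MorphismProperty Opposite Topology

namespace Groth.Agent.H3.AlgSpCov

open _root_.AlgSp Groth.Agent.H5.AlgSp Groth.Agent.H5.EtSrc

variable {S : Scheme.{u}}

lemma etale_le_flat : (@Etale : MorphismProperty Scheme.{u}) ≤ @Flat := fun _ _ g hg => by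
  have : Etale g := hg
  exact (inferInstance : Flat g)

lemma isOpenImmersion_le_etale : (@IsOpenImmersion : MorphismProperty Scheme.{u}) ≤ @Etale :=
  fun _ _ g hg => by
    have : IsOpenImmersion g := hg
    exact (inferInstance : Etale g)

lemma locP_of_openImm {Q : MorphismProperty Scheme.{u}} [Q.IsStableUnderComposition]
    (hQ : (@Etale : MorphismProperty Scheme.{u}) ≤ Q) {X Y : Sp S} {j : X ⟶ Y}
    (hj : RepWith @IsOpenImmersion j) : LocP Q j :=
  locP_of_repWith hQ (Groth.Agent.H5.AlgSp.repWith_mono (isOpenImmersion_le_etale.trans hQ) hj)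

lemma covClass_fppf : CovClass (S := S)
    (fun _ _ f => LocP @Flat f ∧ LocP @LocallyOfFinitePresentation f) where
  of_openImm := fun _ _ _ _ j hj => ⟨locP_of_openImm etale_le_flat hj, locP_of_openImm etale_le_lfp hj⟩
  comp := fun _ _ _ hX hY hZ f g hf hg =>
    ⟨locP_comp etale_le_flat hX hY hZ hf.1 hg.1, locP_comp etale_le_lfp hX hY hZ hf.2 hg.2⟩
  cancel := fun X Y Z hX hY hZ f j hj h =>
    Groth.Agent.H8.AlgSp.restrictsToOpens_fppf (f ≫ j) (𝟙 X) j f (repWith_isOpenImmersion_id X) hj
      (mono_of_isOpenImmersion hj) (by simp) h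
  isOpenMap := fun _ _ hX hY f hf => Groth.Agent.H8.AlgSp.openOnPts_fppf f hX hY hf

lemma covClass_smooth : CovClass (S := S) (LocP @Smooth) where
  of_openImm := fun _ _ _ _ j hj => locP_of_openImm etale_le_smooth hj
  comp := fun _ _ _ hX hY hZ f g hf hg => locP_comp etale_le_smooth hX hY hZ hf hg
  cancel := fun X Y Z hX hY hZ f j hj h =>
    Groth.Agent.H8.AlgSp.locP_restrict _ (f ≫ j) (𝟙 X) j f (repWith_isOpenImmersion_id X) hj
      (mono_of_isOpenImmersion hj) (by simp) h
  isOpenMap := fun _ _ hX hY f hf => Groth.Agent.H8.AlgSp.openOnPts_smooth f hX hY hf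

lemma covClass_etale : CovClass (S := S) IsEtaleMor where
  of_openImm := fun _ _ _ hY j hj =>
    (isEtaleMor_iff_locP hY j).2 (locP_of_openImm le_rfl hj)
  comp := fun _ _ _ hX hY hZ f g hf hg =>
    (isEtaleMor_iff_locP hZ _).2 (locP_comp le_rfl hX hY hZ ((isEtaleMor_iff_locP hY f).1 hf)
      ((isEtaleMor_iff_locP hZ g).1 hg))
  cancel := fun X Y Z hX hY hZ f j hj h =>
    Groth.Agent.H8.AlgSp.restrictsToOpens_etale (f ≫ j) (𝟙 X) j f (repWith_isOpenImmersion_id X) hj
      (mono_of_isOpenImmersion hj) (by simp) h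
  isOpenMap := fun _ _ hX hY f hf => Groth.Agent.H8.AlgSp.openOnPts_etale f hX hY hf

end Groth.Agent.H3.AlgSpCov
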