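import Mathlib
import Groth.Prelude.Def_W4stk3sptopologiesPh
import Groth.Agent.Lib.Helper3.AlgSpCov.RepBase

set_option autoImplicit false
set_option linter.overlappingInstances false
set_option linter.unusedSectionVars false

universe u

open CategoryTheory CategoryTheory.Limits AlgebraicGeometry MorphismProperty Opposite Topology

namespace Groth.Agent.H3.AlgSpCov

open _root_.AlgSp Groth.Agent.H5.AlgSp Groth.Agent.H5.EtSrc

variable {S : Scheme.{u}}

theorem isPhCover_of_isPullback {X X' : Sp S} (hX : IsAlgSpace X) (hX' : IsAlgSpace X')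
    (a : X' ⟶ X) {ι : Type u} (Xi : ι → Sp S) (hXi : ∀ i, IsAlgSpace (Xi i))
    (g : ∀ i, Xi i ⟶ X) (Xi' : ι → Sp S) (q : ∀ i, Xi' i ⟶ X') (p : ∀ i, Xi' i ⟶ Xi i)
    (sq : ∀ i, IsPullback (q i) (p i) a (g i)) (h : IsPhCover Xi g) : IsPhCover Xi' q := by
  refine ⟨fun i => locP_of_isPullback etale_le_lft (sq i).flip (hXi i) hX hX' (h.1 i),
    fun Z hZ k => ?_⟩
  obtain ⟨F, hF, hl⟩ := h.2 Z hZ (k ≫ a)
  refine ⟨F, hF, fun j => ?_⟩
  obtain ⟨i, l, hl⟩ := hl j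
  exact ⟨i, (sq i).lift ((yon S).map (Over.homMk (F.f j) rfl : Over.mk (F.f j ≫ Z.hom) ⟶ Z) ≫ k) l
    (by rw [Category.assoc, hl]), (sq i).lift_fst _ _ _⟩

end Groth.Agent.H3.AlgSpCov
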