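import Mathlib
import Groth.Agent.Lib.Helper3.AlgSpCov.IsoBase
import Groth.Agent.Lib.Helper5.AlgSp.QCompact

set_option autoImplicit false
set_option linter.overlappingInstances false
set_option linter.unusedSectionVars false

universe u

open CategoryTheory CategoryTheory.Limits AlgebraicGeometry MorphismProperty Opposite Topology

namespace Groth.Agent.H3.AlgSpCov

open _root_.AlgSp Groth.Agent.H5.AlgSp Groth.Agent.H5.EtSrc

variable {S : Scheme.{u}}

/-- A quasi-compact, flat, surjective morphism of algebraic spaces is an fpqc covering. -/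
theorem isFpqcCover_single_of_qc_flat_surjective {X Y : Sp S} (hX : IsAlgSpace X)
    (hY : IsAlgSpace Y) (f : X ⟶ Y) (hqc : IsQuasiCompactMor f) (hflat : LocP @Flat f)
    (hsurj : IsSurjectiveMor f) :
    IsFpqcCover (fun _ : PUnit.{u + 1} => X) (fun _ => f) := by
  refine ⟨fun _ => hflat, fun Z hZ k => ?_⟩
  have sq := IsPullback.of_hasPullback f k
  have hZa : IsAlgSpace ((yon S).obj Z) := IsAlgSpace.yon_obj Z
  have hXZ : IsAlgSpace (pullback f k) := isAlgSpace_pullback hY.diag hX hZa sq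
  have hZqc : IsQuasiCompactSp ((yon S).obj Z) := by
    rw [isQuasiCompactSp_yon_iff]
    infer_instance
  obtain ⟨U, a, hae, has, hUc⟩ := hqc hZa hZqc k _ _ sq
  obtain ⟨φ, hφ⟩ := (yon S).map_surjective (a ≫ pullback.snd f k)
  have hfl : LocP @Flat (pullback.snd f k) := locP_of_isPullback etale_le_flat sq hX hY hZa hflat
  have hφfl : Flat φ.left := hfl a (𝟙 _) φ hae (repWith_id _ Z) (by rw [hφ, Category.comp_id])
  have hφs : Function.Surjective φ.left := by
    intro z
    obtain ⟨y, hy⟩ := isSurjectiveMor_of_isPullback sq hsurj (Points.ofScheme Z z)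
    obtain ⟨u, hu⟩ := ofPt_surjective_of_repWith has y
    refine ⟨u, ?_⟩
    have h1 : Points.ofPt ((yon S).map φ) u = Points.ofScheme Z z := by
      rw [hφ, ← Points.map_ofPt, hu, hy]
    have h2 := congrArg (Points.toScheme Z) h1
    rwa [Points.toScheme_ofPt, Points.toScheme_ofScheme] at h2
  have : CompactSpace ↥U.left := hUc
  let 𝒰 := U.left.affineCover.finiteSubcover
  refine exists_fin_of_fintype (κ := 𝒰.I₀) k (fun j => Over.mk (𝒰.f j ≫ U.hom))
    (fun j => (Over.homMk (𝒰.f j) rfl : Over.mk (𝒰.f j ≫ U.hom) ⟶ U) ≫ φ) (fun j => ?_)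
    (fun j => ?_) (fun z => ?_)
    (fun W'' c'' => ∃ (i : PUnit.{u + 1}) (l'' : (yon S).obj W'' ⟶ X),
      l'' ≫ f = (yon S).map c'' ≫ k) (fun j => ?_)
  · change IsAffine (𝒰.X j)
    infer_instance
  · rw [Over.comp_left]
    change Flat (𝒰.f j ≫ φ.left)
    infer_instance
  · obtain ⟨u, hu⟩ := hφs z
    obtain ⟨j, v, hv⟩ := 𝒰.exists_eq u
    refine ⟨j, v, ?_⟩
    rw [Over.comp_left]
    change (𝒰.f j ≫ φ.left) v = z
    rw [Scheme.Hom.comp_apply, hv, hu]
  · refine ⟨PUnit.unit, (yon S).map (Over.homMk (𝒰.f j) rfl : Over.mk (𝒰.f j ≫ U.hom) ⟶ U) ≫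
      a ≫ pullback.fst f k, ?_⟩
    rw [Category.assoc, Category.assoc, pullback.condition, ← Category.assoc a, ← hφ,
      Functor.map_comp, Category.assoc]

/-- A monomorphism of algebraic spaces that is quasi-compact, flat and surjective is an
isomorphism. -/
theorem isIso_of_quasiCompact_flat_surjective_mono {X Y : Sp S} (hX : IsAlgSpace X)
    (hY : IsAlgSpace Y) (f : X ⟶ Y) (hqc : IsQuasiCompactMor f) (hflat : LocP @Flat f)
    (hsurj : IsSurjectiveMor f) [Mono f] : IsIso f := by
  have hcov := isFpqcCover_single_of_qc_flat_surjective hX hY f hqc hflat hsurj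
  have sq : IsPullback (𝟙 X) (𝟙 X) f f := IsKernelPair.id_of_mono f
  exact (isLocalOnBase_fpqc_isomorphisms _ _ hY (fun _ => hX) hcov f hX (fun _ => X) (fun _ => 𝟙 X)
    (fun _ => 𝟙 X) (fun _ => hX) (fun _ => sq)).2 fun _ =>
      (inferInstance : IsIso (𝟙 X))

end Groth.Agent.H3.AlgSpCov
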