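import Mathlib
import Groth.Agent.Lib.Helper3.AlgSpCov.RedNoeth
import Groth.Agent.Lib.Helper8.AlgSp.InvMax

set_option autoImplicit false
set_option linter.overlappingInstances false
set_option linter.unusedSectionVars false

universe u

open CategoryTheory CategoryTheory.Limits AlgebraicGeometry MorphismProperty Opposite Topology

namespace Groth.Agent.H3.AlgSpCov

open _root_.AlgSp Groth.Agent.H5.AlgSp Groth.Agent.H5.EtSrc

variable {S : Scheme.{u}}

/-- Reducedness ascends along smooth morphisms of algebraic spaces. -/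
theorem isReducedSp_of_smooth {X Y : Sp S} (hX : IsAlgSpace X) (hY : IsAlgSpace Y)
    (f : X ⟶ Y) (hf : LocP @Smooth f) (hYr : IsReducedSp Y) : IsReducedSp X := by
  obtain ⟨V, b, hbe, hbs⟩ := hY.atlas
  obtain ⟨U, a, h, hae, has, comm⟩ := exists_chart_diagram_surj hX f hbe hbs
  have hVr := isReduced_of_etale_of_isReducedSp hYr b hbe
  have hsm : Smooth h.left := hf a b h hae hbe comm
  exact ⟨U, a, hae, has, Groth.Agent.H4.SmRed.isReduced_of_smooth_scheme h.left⟩

theorem isReducedSp_smooth {X Y : Sp S} (hX : IsAlgSpace X) (hY : IsAlgSpace Y)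
    (f : X ⟶ Y) (hf : LocP @Smooth f) :
    (IsReducedSp Y → IsReducedSp X) ∧
    (IsSurjectiveMor f → IsReducedSp X → IsReducedSp Y) :=
  ⟨isReducedSp_of_smooth hX hY f hf, fun hs hXr =>
    isReducedSp_of_flat_surjective hX hY f (Groth.Agent.H8.AlgSp.locP_mono (fun _ _ g hg => by
      have : Smooth g := hg
      exact (inferInstance : Flat g)) hf) hs hXr⟩

end Groth.Agent.H3.AlgSpCov
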