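import Mathlib
import Groth.Agent.Lib.Helper3.AlgSpCov.Source

set_option autoImplicit false
set_option linter.overlappingInstances false
set_option linter.unusedSectionVars false

universe u

open CategoryTheory CategoryTheory.Limits AlgebraicGeometry MorphismProperty Opposite Topology

namespace Groth.Agent.H3.AlgSpCov

open _root_.AlgSp Groth.Agent.H5.AlgSp Groth.Agent.H5.EtSrc

variable {S : Scheme.{u}}

section Generic

variable {P 𝒬 : MorphismProperty Scheme.{u}} {K : Precoverage Scheme.{u}} [P.IsLocalAtSource K]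

/-- Precomposition with a morphism in the covering class preserves `LocP P`, for `P` local at the
source for a precoverage containing the étale one. -/
theorem locP_precomp_of_isLocalAtSource (hK : Scheme.etalePrecoverage ≤ K)
    (hcancel : ∀ {A B C : Scheme.{u}} (u : A ⟶ B) (v : B ⟶ C), 𝒬 (u ≫ v) → Etale v → 𝒬 u)
    (hmem : ∀ {A B : Scheme.{u}} (e : A ⟶ B), 𝒬 e → ∃ R : Presieve B, R ∈ K B ∧ R e)
    {X' X Y : Sp S} (hX : IsAlgSpace X) (g : X' ⟶ X) (f : X ⟶ Y) (hg : LocP 𝒬 g)
    (hf : LocP P f) : LocP P (g ≫ f) := by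
  intro U V a b h ha hb comm
  obtain ⟨T, c, hce, hcs⟩ := hX.atlas
  -- `U' = U ×_X T`
  have sqU := hce.rep.isPullback (a ≫ g)
  have hπe : Etale (hce.rep.snd (a ≫ g)).left := hce.property_snd _
  have hπs : Surjective (hce.rep.snd (a ≫ g)).left := hcs.property_snd _
  obtain ⟨k, hk⟩ := (yon S).map_surjective (hce.rep.fst (a ≫ g))
  -- `T' = V ×_Y T`
  have sqT := hb.rep.isPullback (c ≫ f)
  have hρe : Etale (hb.rep.snd (c ≫ f)).left := hb.property_snd _
  obtain ⟨h', hh'⟩ := (yon S).map_surjective (hb.rep.fst (c ≫ f))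
  -- `P h'`
  have hPh' : P h'.left := by
    refine hf ((yon S).map (hb.rep.snd (c ≫ f)) ≫ c) b h'
      ((RepWith @Etale).comp_mem _ _ ((repWith_yon_map_iff @Etale _).2 hρe) hce) hb ?_
    rw [hh', Category.assoc]
    exact sqT.w.symm
  -- the map `e : U' ⟶ T'`
  have hw : (yon S).map (hce.rep.snd (a ≫ g) ≫ h) ≫ b = (yon S).map k ≫ c ≫ f := by
    rw [Functor.map_comp, Category.assoc, ← comm, hk, ← Category.assoc (hce.rep.fst (a ≫ g)),
      sqU.w, Category.assoc, Category.assoc]
  obtain ⟨e, he⟩ := (yon S).map_surjective (sqT.lift _ _ hw)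
  have he₁ : e ≫ h' = hce.rep.snd (a ≫ g) ≫ h := by
    apply (yon S).map_injective
    rw [Functor.map_comp, he, hh', sqT.lift_fst]
  have he₂ : e ≫ hb.rep.snd (c ≫ f) = k := by
    apply (yon S).map_injective
    rw [Functor.map_comp, he, sqT.lift_snd]
  -- `𝒬 k`
  have h𝒬k : 𝒬 k.left := by
    refine hg ((yon S).map (hce.rep.snd (a ≫ g)) ≫ a) c k
      ((RepWith @Etale).comp_mem _ _ ((repWith_yon_map_iff @Etale _).2 hπe) ha) hce ?_
    rw [hk, Category.assoc]
    exact sqU.w.symm
  have h𝒬e : 𝒬 e.left := by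
    rw [← he₂, Over.comp_left] at h𝒬k
    exact hcancel _ _ h𝒬k hρe
  obtain ⟨R, hR, hRe⟩ := hmem e.left h𝒬e
  have h1 : P (e ≫ h').left := by
    rw [Over.comp_left]
    exact IsLocalAtSource.comp hR e.left hRe hPh'
  rw [he₁, Over.comp_left] at h1
  have hsing : Presieve.singleton (hce.rep.snd (a ≫ g)).left ∈ K U.left := by
    apply hK
    rw [Scheme.etalePrecoverage, Scheme.singleton_mem_precoverage_iff]
    exact ⟨hπs.surj, hπe⟩
  refine IsLocalAtSource.of_forall_comp hsing ?_
  rintro _ _ ⟨⟩
  exact h1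

/-- `LocP P` can be checked on a covering of the source, provided the induced families of
schemes over étale charts are coverings for a precoverage at which `P` is local at the source. -/
theorem locP_of_source_cover {ι : Type u} {X Y : Sp S} (hX : IsAlgSpace X) (Xi : ι → Sp S)
    (hXi : ∀ i, IsAlgSpace (Xi i)) (g : ∀ i, Xi i ⟶ X) (f : X ⟶ Y)
    (hcov : ∀ (U : Over S) (a : (yon S).obj U ⟶ X), RepWith @Etale a →
      ∀ (T : ι → Over S) (α : ∀ i, (yon S).obj (T i) ⟶ pullback a (g i)),
      (∀ i, RepWith @Etale (α i)) → (∀ i, RepWith @Surjective (α i)) →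
      ∀ (t : ∀ i, T i ⟶ U), (∀ i, (yon S).map (t i) = α i ≫ pullback.fst a (g i)) →
      Presieve.ofArrows (fun i => (T i).left) (fun i => (t i).left) ∈ K U.left)
    (h : ∀ i, LocP P (g i ≫ f)) : LocP P f := by
  intro U V a b k ha hb comm
  have hUi : ∀ i, IsAlgSpace (pullback a (g i)) := fun i =>
    isAlgSpace_pullback hX.diag (IsAlgSpace.yon_obj U) (hXi i) (IsPullback.of_hasPullback _ _)
  choose T α hαe hαs using fun i => (hUi i).atlas
  choose t ht using fun i => (yon S).map_surjective (α i ≫ pullback.fst a (g i))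
  have hmem := hcov U a ha T α hαe hαs t ht
  refine IsLocalAtSource.of_forall_comp hmem ?_
  rintro _ _ ⟨i⟩
  have hsnd : RepWith @Etale (pullback.snd a (g i)) :=
    MorphismProperty.of_isPullback (P := RepWith @Etale) (IsPullback.of_hasPullback a (g i)) ha
  have := h i (α i ≫ pullback.snd a (g i)) b (t i ≫ k)
    ((RepWith @Etale).comp_mem _ _ (hαe i) hsnd) hb (by
      rw [Category.assoc, ← Category.assoc (pullback.snd a (g i)), ← pullback.condition,
        Category.assoc, comm, Functor.map_comp, ht i, Category.assoc, Category.assoc])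
  rwa [Over.comp_left] at this

end Generic

section Cases

/-- Cancellation of étale morphisms. -/
lemma cancel_etale {𝒬 : MorphismProperty Scheme.{u}} [𝒬.IsStableUnderBaseChange]
    [𝒬.IsStableUnderComposition] (h𝒬 : (@Etale : MorphismProperty Scheme.{u}) ≤ 𝒬)
    {A B C : Scheme.{u}} (p : A ⟶ B) (v : B ⟶ C) (h : 𝒬 (p ≫ v)) (hv : Etale v) : 𝒬 p := by
  have := hasOfPostcompProperty_etale h𝒬
  exact 𝒬.of_postcomp (W' := @Etale) p v hv h

/-- Every morphism in `𝒬` belongs to a covering for `Scheme.precoverage 𝒬`. -/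
lemma exists_mem_precoverage {𝒬 : MorphismProperty Scheme.{u}} [𝒬.ContainsIdentities]
    [𝒬.RespectsIso] {A B : Scheme.{u}} (e : A ⟶ B) (he : 𝒬 e) :
    ∃ R : Presieve B, R ∈ Scheme.precoverage 𝒬 B ∧ R e := by
  refine ⟨((Scheme.coverOfIsIso.{0} (P := 𝒬) (𝟙 B)).add e he).presieve₀,
    ((Scheme.coverOfIsIso.{0} (P := 𝒬) (𝟙 B)).add e he).mem₀, ?_⟩
  rw [Scheme.Cover.add_toPreZeroHypercover _ e he, PreZeroHypercover.presieve₀_add]
  exact Or.inr ⟨⟩

/-- Every flat morphism belongs to a covering for the fpqc precoverage. -/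
lemma exists_mem_fpqcPrecoverage {A B : Scheme.{u}} (e : A ⟶ B) (he : Flat e) :
    ∃ R : Presieve B, R ∈ Scheme.fpqcPrecoverage B ∧ R e := by
  refine ⟨((Scheme.coverOfIsIso.{0} (P := @Flat) (𝟙 B)).add e he).presieve₀,
    ⟨?_, ((Scheme.coverOfIsIso.{0} (P := @Flat) (𝟙 B)).add e he).mem₀⟩, ?_⟩
  · rw [Scheme.presieve₀_mem_qcPrecoverage_iff, Scheme.Cover.add_toPreZeroHypercover _ e he]
    exact QuasiCompactCover.of_hom (𝒱 := (Scheme.coverOfIsIso.{0} (P := @Flat) (𝟙 B)).toPreZeroHypercover)
      ⟨some, fun i => 𝟙 _, fun i => by simp⟩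
  · rw [Scheme.Cover.add_toPreZeroHypercover _ e he, PreZeroHypercover.presieve₀_add]
    exact Or.inr ⟨⟩

variable {ι : Type u} {X : Sp S} (hX : IsAlgSpace X) (Xi : ι → Sp S)
  (hXi : ∀ i, IsAlgSpace (Xi i)) (g : ∀ i, Xi i ⟶ X)

include hX hXi in
/-- The family of schemes induced over an étale chart by a jointly surjective family of morphisms
in the class `𝒬` is a covering for `Scheme.precoverage 𝒬`. -/
theorem chart_family_mem_precoverage {𝒬 : MorphismProperty Scheme.{u}}
    [𝒬.IsStableUnderBaseChange] [𝒬.IsStableUnderComposition] [IsEtaleLocalSource 𝒬]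
    (h𝒬 : (@Etale : MorphismProperty Scheme.{u}) ≤ 𝒬) (hg : ∀ i, LocP 𝒬 (g i))
    (hsurj : ∀ x : Points X, ∃ i, x ∈ Set.range (Points.map (g i)))
    (U : Over S) (a : (yon S).obj U ⟶ X)
    (T : ι → Over S) (α : ∀ i, (yon S).obj (T i) ⟶ pullback a (g i))
    (hαe : ∀ i, RepWith @Etale (α i)) (hαs : ∀ i, RepWith @Surjective (α i))
    (t : ∀ i, T i ⟶ U) (ht : ∀ i, (yon S).map (t i) = α i ≫ pullback.fst a (g i)) :
    Presieve.ofArrows (fun i => (T i).left) (fun i => (t i).left) ∈
      Scheme.precoverage 𝒬 U.left := by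
  rw [Scheme.ofArrows_mem_precoverage_iff]
  refine ⟨fun p => ?_, fun i => ?_⟩
  · obtain ⟨i, xi, hxi⟩ := hsurj (Points.ofPt a p)
    have sq := IsPullback.of_hasPullback a (g i)
    obtain ⟨y, hy1, hy2⟩ := points_pullback_surjective sq (Points.ofScheme U p) xi
      (by rw [hxi, ← Points.ofPt_eq_map_ofScheme])
    obtain ⟨t', ht'⟩ := ofPt_surjective_of_repWith (hαs i) y
    refine ⟨i, t', ?_⟩
    have h1 : Points.ofPt ((yon S).map (t i)) t' = Points.ofScheme U p := by
      rw [ht i, ← Points.map_ofPt, ht', hy1]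
    have h2 := congrArg (Points.toScheme U) h1
    rwa [Points.toScheme_ofPt, Points.toScheme_ofScheme] at h2
  · have hfst : LocP 𝒬 (pullback.fst a (g i)) :=
      locP_of_isPullback h𝒬 (IsPullback.of_hasPullback a (g i)).flip (hXi i) hX
        (IsAlgSpace.yon_obj U) (hg i)
    exact hfst (α i) (𝟙 _) (t i) (hαe i) (repWith_id _ U) (by rw [ht i, Category.comp_id])

include hX hXi in
/-- The family of schemes induced over an étale chart by an fpqc covering is a quasi-compact
cover. -/
theorem chart_family_quasiCompactCover (hg : IsFpqcCover Xi g)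
    (U : Over S) (a : (yon S).obj U ⟶ X)
    (T : ι → Over S) (α : ∀ i, (yon S).obj (T i) ⟶ pullback a (g i))
    (hαe : ∀ i, RepWith @Etale (α i)) (hαs : ∀ i, RepWith @Surjective (α i))
    (t : ∀ i, T i ⟶ U) (ht : ∀ i, (yon S).map (t i) = α i ≫ pullback.fst a (g i)) :
    QuasiCompactCover
      ({ I₀ := ι, X := fun i => (T i).left, f := fun i => (t i).left } :
        PreZeroHypercover.{u} U.left) := by
  refine ⟨fun {O} hO => ?_⟩
  have hOaff : IsAffine (overOpen U O).left := hO
  obtain ⟨m, W, c, haff, hflat, hsurj, hl⟩ := hg.2 (overOpen U O) hOaff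
    ((yon S).map (overOpenι U O) ≫ a)
  choose i l hl using hl
  -- the maps `W j ⟶ U ×_X X_{i j}`
  have hwcond : ∀ j, (yon S).map (c j ≫ overOpenι U O) ≫ a = l j ≫ g (i j) := by
    intro j
    rw [hl j, Functor.map_comp, Category.assoc]
  choose w hw1 hw2 using fun j => (⟨pullback.lift _ _ (hwcond j), pullback.lift_fst _ _ _,
    pullback.lift_snd _ _ _⟩ : ∃ w : (yon S).obj (W j) ⟶ pullback a (g (i j)),
      w ≫ pullback.fst a (g (i j)) = (yon S).map (c j ≫ overOpenι U O) ∧
      w ≫ pullback.snd a (g (i j)) = l j)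
  have sqW := fun j => (hαe (i j)).rep.isPullback (w j)
  have hπe : ∀ j, Etale ((hαe (i j)).rep.snd (w j)).left :=
    fun j => (hαe (i j)).property_snd _
  have hπs : ∀ j, Surjective ((hαe (i j)).rep.snd (w j)).left :=
    fun j => (hαs (i j)).property_snd _
  choose s hs using fun j => (yon S).map_surjective ((hαe (i j)).rep.fst (w j))
  have hcomm : ∀ j, s j ≫ t (i j) = (hαe (i j)).rep.snd (w j) ≫ c j ≫ overOpenι U O := by
    intro j
    apply (yon S).map_injective
    rw [Functor.map_comp, hs j, ht (i j), ← Category.assoc, (sqW j).w, Category.assoc,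
      hw1 j, ← Functor.map_comp]
  -- compact opens of the `W' j` surjecting onto `W j`
  have hV : ∀ j, ∃ V : TopologicalSpace.Opens ↥((hαe (i j)).rep.pullback (w j)).left,
      IsCompact V.1 ∧ ((hαe (i j)).rep.snd (w j)).left '' V = Set.univ := by
    intro j
    have := hπe j
    have := haff j
    refine IsOpenMap.exists_opens_image_eq_of_prespectralSpace
      (Scheme.Hom.continuous _) (Scheme.Hom.isOpenMap _) ?_ isOpen_univ isCompact_univ
    intro w _
    exact (hπs j).surj w
  choose V hVc hVs using hV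
  refine IsCompactOpenCovered.of_comp (a := i)
    (fun j => ⇑((hαe (i j)).rep.snd (w j) ≫ c j ≫ overOpenι U O).left)
    (fun j => ⇑(s j).left) (fun j => Scheme.Hom.continuous _) (fun j => ?_)
    (fun i => Scheme.Hom.continuous _) O.2 ?_
  · rw [← hcomm j, Over.comp_left]
    ext x
    simp
  · refine IsCompactOpenCovered.of_finite (κ := Fin m) id V hVc ?_
    apply Set.Subset.antisymm
    · intro x hx
      simp only [Set.mem_iUnion] at hx
      obtain ⟨j, v, -, rfl⟩ := hx
      simp only [id, Over.comp_left, Scheme.Hom.comp_apply]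
      exact Subtype.property _
    · intro x hx
      obtain ⟨j, w', hw'⟩ := hsurj ⟨x, hx⟩
      have : w' ∈ ((hαe (i j)).rep.snd (w j)).left '' (V j) := by
        rw [hVs j]; trivial
      obtain ⟨v, hv, rfl⟩ := this
      simp only [Set.mem_iUnion]
      refine ⟨j, v, hv, ?_⟩
      simp only [id, Over.comp_left, Scheme.Hom.comp_apply]
      rw [hw']
      rfl

end Cases

section Main

variable (S) (P : MorphismProperty Scheme.{u})

lemma etalePrecoverage_le_smooth :
    Scheme.etalePrecoverage.{u} ≤ Scheme.precoverage @Smooth :=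
  Scheme.precoverage_mono etale_le_smooth

lemma etalePrecoverage_le_fppf : Scheme.etalePrecoverage.{u} ≤ Scheme.fppfPrecoverage :=
  Scheme.precoverage_mono fun _ _ f hf => ⟨etale_le_flat _ _ f hf, etale_le_lfp _ _ f hf⟩

theorem isLocalOnSource_fpqc_locP_of [P.IsLocalAtSource Scheme.fpqcPrecoverage] :
    IsLocalOnSource (IsFpqcCover (S := S)) (LocP P) := by
  intro ι X Xi g hX hXi hcov Y f hY
  constructor
  · intro hf i
    exact locP_precomp_of_isLocalAtSource (K := Scheme.fpqcPrecoverage) (𝒬 := @Flat)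
      (etalePrecoverage_le_fppf.trans Scheme.fppfPrecoverage_le_fpqcPrecoverage)
      (fun p v h hv => cancel_etale etale_le_flat p v h hv)
      (fun e he => exists_mem_fpqcPrecoverage e he) hX (g i) f (hcov.1 i) hf
  · intro h
    refine locP_of_source_cover (K := Scheme.fpqcPrecoverage) hX Xi hXi g f ?_ h
    intro U a ha T α hαe hαs t ht
    refine ⟨?_, chart_family_mem_precoverage hX Xi hXi g etale_le_flat hcov.1
      (exists_mem_range_of_isFpqcCover Xi g hcov) U a T α hαe hαs t ht⟩
    have := chart_family_quasiCompactCover hX Xi hXi g hcov U a T α hαe hαs t ht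
    rw [← Scheme.presieve₀_mem_qcPrecoverage_iff] at this
    exact this

theorem isLocalOnSource_fppf_locP_of [P.IsLocalAtSource Scheme.fppfPrecoverage] :
    IsLocalOnSource (IsFppfCover (S := S)) (LocP P) := by
  intro ι X Xi g hX hXi hcov Y f hY
  have hg : ∀ i, LocP (@Flat ⊓ @LocallyOfFinitePresentation : MorphismProperty Scheme.{u}) (g i) :=
    fun i _ _ a b k ha hb comm =>
    ⟨(hcov.1 i).1 a b k ha hb comm, (hcov.1 i).2 a b k ha hb comm⟩
  have hle : (@Etale : MorphismProperty Scheme.{u}) ≤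
      (@Flat ⊓ @LocallyOfFinitePresentation : MorphismProperty Scheme.{u}) :=
    fun _ _ f hf => ⟨etale_le_flat _ _ f hf, etale_le_lfp _ _ f hf⟩
  constructor
  · intro hf i
    exact locP_precomp_of_isLocalAtSource (K := Scheme.fppfPrecoverage)
      (𝒬 := @Flat ⊓ @LocallyOfFinitePresentation) etalePrecoverage_le_fppf
      (fun p v h hv => cancel_etale hle p v h hv)
      (fun e he => exists_mem_precoverage e he) hX (g i) f (hg i) hf
  · intro h
    refine locP_of_source_cover (K := Scheme.fppfPrecoverage) hX Xi hXi g f ?_ h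
    intro U a ha T α hαe hαs t ht
    exact chart_family_mem_precoverage hX Xi hXi g hle hg hcov.2 U a T α hαe hαs t ht

theorem isLocalOnSource_smooth_locP_of [P.IsLocalAtSource (Scheme.precoverage @Smooth)] :
    IsLocalOnSource (IsSmCover (S := S)) (LocP P) := by
  intro ι X Xi g hX hXi hcov Y f hY
  have : MorphismProperty.ContainsIdentities (@Smooth : MorphismProperty Scheme.{u}) :=
    ⟨fun X => inferInstanceAs (Smooth (𝟙 X))⟩
  constructor
  · intro hf i
    exact locP_precomp_of_isLocalAtSource (K := Scheme.precoverage @Smooth)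
      (𝒬 := @Smooth) etalePrecoverage_le_smooth
      (fun p v h hv => cancel_etale etale_le_smooth p v h hv)
      (fun e he => exists_mem_precoverage e he) hX (g i) f (hcov.1 i) hf
  · intro h
    refine locP_of_source_cover (K := Scheme.precoverage @Smooth) hX Xi hXi g f ?_ h
    intro U a ha T α hαe hαs t ht
    exact chart_family_mem_precoverage hX Xi hXi g etale_le_smooth hcov.1 hcov.2 U a T α hαe hαs
      t ht

theorem isLocalOnSource_etale_locP_of [P.IsLocalAtSource Scheme.etalePrecoverage] :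
    IsLocalOnSource (IsEtCover (S := S)) (LocP P) := by
  intro ι X Xi g hX hXi hcov Y f hY
  have hg : ∀ i, LocP @Etale (g i) := fun i => (isEtaleMor_iff_locP hX (g i)).1 (hcov.1 i)
  constructor
  · intro hf i
    exact locP_precomp_of_isLocalAtSource (K := Scheme.etalePrecoverage)
      (𝒬 := @Etale) le_rfl
      (fun p v h hv => cancel_etale le_rfl p v h hv)
      (fun e he => exists_mem_precoverage e he) hX (g i) f (hg i) hf
  · intro h
    refine locP_of_source_cover (K := Scheme.etalePrecoverage) hX Xi hXi g f ?_ h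
    intro U a ha T α hαe hαs t ht
    exact chart_family_mem_precoverage hX Xi hXi g le_rfl hg hcov.2 U a T α hαe hαs t ht

end Main

end Groth.Agent.H3.AlgSpCov
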